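import Mathlib
import Cfsg.Agent.Lib.Lead.BSW0f

/-!
# Brauer–Suzuki–Wall, abstract form (towards S3282): the conclusion from a good strongly real element

(author: helper5)  `Concl G` is the conclusion of S3282.  `conclusion_of_pair`: if `g` lies in no conjugate of `K`, is
inverted by the involution `u = y t y⁻¹`, `Q := C(g)` has the right order and `K_u ≤ N(Q)`, then `Concl G` holds with
`Q` and `D := K_u`.
-/

set_option autoImplicit false
set_option linter.unusedVariables false
set_option linter.unusedSectionVars false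
set_option linter.style.haveILetI false
set_option linter.unusedSimpArgs false

namespace Cfsg.Agent.Lib.Helper5.BSW

open Subgroup Cfsg.Agent.Lib.Lead.BSW

/-- the conclusion of S3282 -/
def Concl (G : Type*) [Group G] : Prop :=
  ∃ Q D : Subgroup G, 2 * Nat.card G = Nat.card ↥Q * (Nat.card ↥Q + 1) * (Nat.card ↥Q - 1) ∧
      (∀ x ∈ Q, x ≠ 1 → Subgroup.centralizer ({x} : Set G) = Q) ∧
      IsMulCommutative ↥D ∧ 2 * Nat.card ↥D + 1 = Nat.card ↥Q ∧ Q ⊓ D = ⊥ ∧
      Subgroup.normalizer (Q : Set G) = Q ⊔ D ∧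
      ∀ X : Subgroup G, X ≤ D → X ≠ ⊥ →
        Subgroup.normalizer (X : Set G) = Subgroup.normalizer (D : Set G) ∧
        ∃ u : G, orderOf u = 2 ∧ u ∉ D ∧ (∀ d ∈ D, u * d * u⁻¹ = d⁻¹) ∧
          Subgroup.normalizer (D : Set G) = D ⊔ Subgroup.zpowers u

variable {G : Type*} [Group G] {t s : G} {K : Subgroup G}

theorem card_map_conj (K : Subgroup G) (y : G) :
    Nat.card (K.map (MulAut.conj y).toMonoidHom) = Nat.card K :=
  (Nat.card_congr (K.equivMapOfInjective (MulAut.conj y).toMonoidHom
    (MulAut.conj y).injective).toEquiv).symm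

theorem conclusion_of_pair [Finite G] (h : Hyp t s K) {g u y : G} (hR : InR K g)
    (hu : orderOf u = 2) (hinv : u * g * u⁻¹ = g⁻¹) (hy : u = y * t * y⁻¹)
    (hcard : 2 * Nat.card G = Nat.card (centralizer ({g} : Set G)) *
      (Nat.card (centralizer ({g} : Set G)) + 1) * (Nat.card (centralizer ({g} : Set G)) - 1))
    (hk : 2 * Nat.card K + 1 = Nat.card (centralizer ({g} : Set G)))
    (hle : K.map (MulAut.conj y).toMonoidHom ≤
      normalizer ((centralizer ({g} : Set G) : Subgroup G) : Set G)) :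
    Concl G := by
  have h' := h.conj_hyp y
  rw [← hy] at h'
  refine ⟨centralizer ({g} : Set G), K.map (MulAut.conj y).toMonoidHom, hcard, ?_, ?_, ?_, ?_, ?_, ?_⟩
  · intro x hx hx1
    exact h.centralizer_eq hR hu hinv hx hx1
  · exact ⟨⟨fun a b => Subtype.ext (h'.comm a a.2 b b.2)⟩⟩
  · rw [card_map_conj]; exact hk
  · rw [eq_bot_iff]
    intro a ha
    rw [mem_bot]
    obtain ⟨ha1, ha2⟩ := mem_inf.1 ha
    rw [mem_centralizer_singleton] at ha1
    have hau := h'.KH ha2
    rw [mem_centralizer_singleton] at hau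
    exact h.eq_one_of_commute hR hu ha1 hau
  · apply le_antisymm
    · intro z hz
      obtain ⟨c, hc, hcu⟩ := h.normalizer_factor hR hu hinv hz
      have hcz : c⁻¹ * z ∈ normalizer ((centralizer ({g} : Set G) : Subgroup G) : Set G) :=
        mul_mem (inv_mem (le_normalizer hc)) hz
      have hD := h.normalizer_inf_le hR hu hinv hy hcz hcu
      have : z = c * (c⁻¹ * z) := by group
      rw [this]
      exact mul_mem_sup hc hD
    · exact sup_le le_normalizer hle
  · intro X hXD hX1
    have hD1 : K.map (MulAut.conj y).toMonoidHom ≠ ⊥ := by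
      intro hb
      apply hX1
      rw [eq_bot_iff, ← hb]; exact hXD
    have e1 := h'.normalizer_eq hXD hX1
    have e2 := h'.normalizer_eq le_rfl hD1
    refine ⟨by rw [e1, e2], y * s * y⁻¹, h'.hs, h'.sK, h'.inv, ?_⟩
    rw [e2]; exact h'.hH.symm

end Cfsg.Agent.Lib.Helper5.BSW
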