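import Mathlib
import Cfsg.Agent.Lib.Helper5.BSW.Concl

/-!
# Brauer–Suzuki–Wall, abstract form (towards S3282): the case `|K| = 2`, part a

(author: helper5)  Basic facts for `|K| = 2` (`C(t)` is a four-group of exponent 2, elements with `g² ≠ 1` lie in no
conjugate of `K`), and the case where `C(t)` is normal: then `|G| = 12` and the conclusion holds with `Q` of order 3,
`D = 1`.
-/

set_option autoImplicit false
set_option linter.unusedVariables false
set_option linter.unusedSectionVars false
set_option linter.style.haveILetI false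
set_option linter.unusedSimpArgs false

namespace Cfsg.Agent.Lib.Helper5.BSW

open Subgroup Cfsg.Agent.Lib.Lead.BSW

variable {G : Type*} [Group G] {t s : G} {K : Subgroup G}

/-- an involution normalising a subgroup all of whose non-identity elements lie in no conjugate of `K`
inverts it -/
theorem inverts_of_normalizes_R [Finite G] (h : Hyp t s K) {B : Subgroup G}
    (hB : ∀ b ∈ B, b ≠ 1 → InR K b) {u : G} (hu : orderOf u = 2)
    (huB : u ∈ normalizer (B : Set G)) : ∀ b ∈ B, u * b * u⁻¹ = b⁻¹ := by
  have huu : u * u = 1 := mul_self_of_orderOf_two hu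
  have hui : u⁻¹ = u := inv_eq_self_of_orderOf_two hu
  have key := Cfsg.Agent.Lib.Helper8.Sh3.inv_of_fpf_on (MulAut.conj u)
    (by intro x; show u * (u * x * u⁻¹) * u⁻¹ = x; rw [hui]
        calc u * (u * x * u) * u = (u * u) * x * (u * u) := by group
          _ = x := by rw [huu, one_mul, mul_one])
    B
    (by intro y hy; exact (mem_normalizer_iff.1 huB y).1 hy)
    (by
      intro y hy hfix
      by_contra hy1
      have hyu : u * y = y * u := by
        have : u * y * u⁻¹ = y := hfix
        calc u * y = (u * y * u⁻¹) * u := by group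
          _ = y * u := by rw [this]
      exact h.not_commute_invol (hB y hy hy1) hu hyu)
  intro b hb
  exact key b hb

/-- a subgroup without involutions has odd order -/
theorem not_two_dvd_card_of_no_invol [Finite G] (B : Subgroup G)
    (hB : ∀ b ∈ B, orderOf b ≠ 2) : ¬ 2 ∣ Nat.card B := by
  intro h2
  haveI : Fact (Nat.Prime 2) := ⟨Nat.prime_two⟩
  obtain ⟨b, hb⟩ := exists_prime_orderOf_dvd_card' 2 h2
  apply hB b.1 b.2
  rw [← hb]
  exact (Subgroup.orderOf_coe b)

namespace K2

theorem mem_K (h : Hyp t s K) (hK : Nat.card K = 2) {k : G} (hk : k ∈ K) : k = 1 ∨ k = t := by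
  haveI : Finite K := Nat.finite_of_card_ne_zero (by omega)
  have h1 : (⟨k, hk⟩ : K) ^ Nat.card K = 1 := pow_card_eq_one'
  rw [hK] at h1
  have hkk : k * k = 1 := by
    have := congrArg Subtype.val h1
    simpa [pow_two] using this
  exact h.eq_t_of_mem_of_sq hk hkk

theorem sq_of_mem_K (h : Hyp t s K) (hK : Nat.card K = 2) {k : G} (hk : k ∈ K) : k * k = 1 := by
  rcases mem_K h hK hk with e | e
  · rw [e, one_mul]
  · rw [e]; exact h.tt

theorem sq_of_mem_H (h : Hyp t s K) (hK : Nat.card K = 2) {c : G}
    (hc : c ∈ centralizer ({t} : Set G)) : c * c = 1 := by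
  rcases h.mem_H_iff.1 hc with hk | hks
  · exact sq_of_mem_K h hK hk
  · exact mul_self_of_orderOf_two (h.orderOf_of_mul_s_mem hks)

theorem inR (h : Hyp t s K) (hK : Nat.card K = 2) {g : G} (hg : g * g ≠ 1) : InR K g := by
  intro x hx
  apply hg
  have hkk := sq_of_mem_K h hK hx
  have : g * g = x * ((x⁻¹ * g * x) * (x⁻¹ * g * x)) * x⁻¹ := by group
  rw [this, hkk]; group

theorem card_H (h : Hyp t s K) (hK : Nat.card K = 2) :
    Nat.card (centralizer ({t} : Set G)) = 4 := by
  rw [h.card_H, hK]

/-- elements of order 3 or 5 (any `g` with `g * g ≠ 1`) -/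
theorem inR_of_orderOf (h : Hyp t s K) (hK : Nat.card K = 2) {g : G} (hg : 2 < orderOf g) :
    InR K g := by
  apply inR h hK
  intro hgg
  have : g ^ 2 = 1 := by rw [pow_two]; exact hgg
  have := orderOf_le_of_pow_eq_one (by norm_num) this
  omega

/-- if `C(t)` is normal then `|G| = 12` -/
theorem card_of_normal [Finite G] (h : Hyp t s K) (hK : Nat.card K = 2)
    (hN : (centralizer ({t} : Set G)).Normal) : Nat.card G = 12 := by
  have hinvH : ∀ u : G, orderOf u = 2 → u ∈ centralizer ({t} : Set G) := by
    intro u hu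
    obtain ⟨x, hx⟩ := h.exists_conj_eq hu
    rw [hx]
    exact hN.conj_mem t (mem_centralizer_singleton.2 rfl) x
  have e : {u : G // orderOf u = 2} ≃ {c : centralizer ({t} : Set G) // c ≠ 1} :=
    { toFun := fun u => ⟨⟨u.1, hinvH u.1 u.2⟩, by
        intro h1
        have : u.1 = 1 := congrArg Subtype.val h1
        exact ne_one_of_orderOf_two u.2 this⟩
      invFun := fun c => ⟨c.1.1, orderOf_two_of (fun h1 => c.2 (Subtype.ext h1))
        (sq_of_mem_H h hK c.1.2)⟩
      left_inv := fun u => rfl
      right_inv := fun c => rfl }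
  have h3 : Nat.card {c : centralizer ({t} : Set G) // c ≠ 1} = 3 := by
    classical
    haveI : Fintype (centralizer ({t} : Set G)) := Fintype.ofFinite _
    have h4 := card_H h hK
    rw [Nat.card_eq_fintype_card] at h4
    rw [Nat.card_eq_fintype_card, Fintype.card_subtype_compl, Fintype.card_subtype_eq, h4]
  have := h.card_invol_mul
  rw [Nat.card_congr e, h3, hK] at this
  omega

/-- if `C(t)` is normal: an element of order 3 is self-centralising and `⟨x⟩` is self-normalising -/
theorem order_three_of_normal [Finite G] (h : Hyp t s K) (hK : Nat.card K = 2)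
    (hN : (centralizer ({t} : Set G)).Normal) {x : G} (hx : orderOf x = 3) :
    centralizer ({x} : Set G) = zpowers x ∧ normalizer ((zpowers x : Subgroup G) : Set G) = zpowers x := by
  have hG := card_of_normal h hK hN
  have hxR : InR K x := inR_of_orderOf h hK (by omega)
  have hx3 : x ^ 3 = 1 := by rw [← hx]; exact pow_orderOf_eq_one x
  have hcz : Nat.card (zpowers x) = 3 := by rw [Nat.card_zpowers, hx]
  have hinvH : ∀ u : G, orderOf u = 2 → u ∈ centralizer ({t} : Set G) := by
    intro u hu
    obtain ⟨y, hy⟩ := h.exists_conj_eq hu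
    rw [hy]
    exact hN.conj_mem t (mem_centralizer_singleton.2 rfl) y
  have harith : ∀ n : ℕ, n ∣ 12 → 3 ∣ n → ¬ 2 ∣ n → n = 3 := by
    intro n h1 h2 h3
    have hle : n ≤ 12 := Nat.le_of_dvd (by norm_num) h1
    interval_cases n <;> omega
  have hzR : ∀ b ∈ zpowers x, b ≠ 1 → InR K b := by
    intro b hb hb1
    apply inR h hK
    intro hbb
    obtain ⟨k, rfl⟩ := mem_zpowers_iff.1 hb
    -- b^3 = 1 and b^2 = 1 so b = 1
    have h3 : (x ^ k) ^ (3 : ℕ) = 1 := by
      rw [← zpow_natCast, ← zpow_mul, mul_comm, zpow_mul, zpow_natCast, hx3, one_zpow]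
    apply hb1
    calc x ^ k = (x ^ k) ^ (3 : ℕ) * ((x ^ k) * (x ^ k))⁻¹ := by group
      _ = 1 := by rw [h3, hbb]; simp
  constructor
  · symm
    apply Subgroup.eq_of_le_of_card_ge
    · rw [zpowers_le, mem_centralizer_singleton]
    · have h1 : Nat.card (centralizer ({x} : Set G)) ∣ 12 := by
        rw [← hG]; exact Subgroup.card_subgroup_dvd_card _
      have h2 : 3 ∣ Nat.card (centralizer ({x} : Set G)) := by
        rw [← hcz]
        apply Subgroup.card_dvd_of_le
        rw [zpowers_le, mem_centralizer_singleton]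
      have h3 : ¬ 2 ∣ Nat.card (centralizer ({x} : Set G)) := by
        apply not_two_dvd_card_of_no_invol
        intro b hb hb2
        rw [mem_centralizer_singleton] at hb
        exact h.not_commute_invol hxR hb2 hb
      rw [harith _ h1 h2 h3, hcz]
  · symm
    apply Subgroup.eq_of_le_of_card_ge
    · exact le_normalizer
    · have h1 : Nat.card (normalizer ((zpowers x : Subgroup G) : Set G)) ∣ 12 := by
        rw [← hG]; exact Subgroup.card_subgroup_dvd_card _
      have h2 : 3 ∣ Nat.card (normalizer ((zpowers x : Subgroup G) : Set G)) := by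
        rw [← hcz]
        exact Subgroup.card_dvd_of_le le_normalizer
      have h3 : ¬ 2 ∣ Nat.card (normalizer ((zpowers x : Subgroup G) : Set G)) := by
        apply not_two_dvd_card_of_no_invol
        intro u hu hu2
        have hinv := inverts_of_normalizes_R h hzR hu2 hu x (mem_zpowers x)
        -- x u x⁻¹ = x x u ∈ H
        have huH := hinvH u hu2
        have hc : x * u * x⁻¹ ∈ centralizer ({t} : Set G) := hN.conj_mem u huH x
        have hui : u⁻¹ = u := inv_eq_self_of_orderOf_two hu2
        have e1 : u * x⁻¹ * u⁻¹ = x := by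
          have e' : (u * x * u⁻¹)⁻¹ = u * x⁻¹ * u⁻¹ := by group
          rw [← e', hinv, inv_inv]
        have e2 : x * u * x⁻¹ = x * x * u := by
          calc x * u * x⁻¹ = x * (u * x⁻¹ * u⁻¹) * u := by group
            _ = x * x * u := by rw [e1]
        rw [e2] at hc
        have hxx : x * x ∈ centralizer ({t} : Set G) := by
          have := mul_mem hc (inv_mem huH)
          rwa [mul_assoc, mul_inv_cancel, mul_one] at this
        have h4 := sq_of_mem_H h hK hxx
        -- x^4 = 1, x^3 = 1 so x = 1
        have : x = 1 := by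
          calc x = (x * x * (x * x)) * (x ^ 3)⁻¹ := by group
            _ = 1 := by rw [h4, hx3]; simp
        rw [this, orderOf_one] at hx
        omega
      rw [harith _ h1 h2 h3, hcz]

/-- the conclusion when `C(t)` is normal -/
theorem concl_of_normal [Finite G] (h : Hyp t s K) (hK : Nat.card K = 2)
    (hN : (centralizer ({t} : Set G)).Normal) : Concl G := by
  have hG := card_of_normal h hK hN
  haveI : Fact (Nat.Prime 3) := ⟨by norm_num⟩
  obtain ⟨x₀, hx₀⟩ := exists_prime_orderOf_dvd_card' (G := G) 3 (by rw [hG]; norm_num)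
  have hcz : Nat.card (zpowers x₀) = 3 := by rw [Nat.card_zpowers, hx₀]
  have hx₀3 : x₀ ^ 3 = 1 := by rw [← hx₀]; exact pow_orderOf_eq_one x₀
  refine ⟨zpowers x₀, ⊥, ?_, ?_, ?_, ?_, ?_, ?_, ?_⟩
  · rw [hcz, hG]
  · intro x hx hx1
    obtain ⟨k, rfl⟩ := mem_zpowers_iff.1 hx
    have h3 : (x₀ ^ k) ^ (3 : ℕ) = 1 := by
      rw [← zpow_natCast, ← zpow_mul, mul_comm, zpow_mul, zpow_natCast, hx₀3, one_zpow]
    have ho : orderOf (x₀ ^ k) = 3 := by
      have hd := orderOf_dvd_of_pow_eq_one h3
      rcases (Nat.dvd_prime (by norm_num : Nat.Prime 3)).1 hd with h1 | h1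
      · exact absurd (orderOf_eq_one_iff.1 h1) hx1
      · exact h1
    have heq : zpowers (x₀ ^ k) = zpowers x₀ := by
      apply Subgroup.eq_of_le_of_card_ge
      · rw [zpowers_le]; exact hx
      · rw [hcz, Nat.card_zpowers, ho]
    rw [(order_three_of_normal h hK hN ho).1, heq]
  · exact ⟨⟨fun a b => Subtype.ext (by
      have ha := mem_bot.1 a.2
      have hb := mem_bot.1 b.2
      show (a : G) * b = b * a
      rw [ha, hb])⟩⟩
  · rw [hcz, Subgroup.card_bot]
  · exact inf_bot_eq _
  · rw [sup_bot_eq]
    exact (order_three_of_normal h hK hN hx₀).2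
  · intro X hX hX1
    exact absurd (le_bot_iff.1 hX) hX1

end K2

end Cfsg.Agent.Lib.Helper5.BSW
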