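import Mathlib
import Cfsg.Agent.Lib.Helper5.BSW.K2a
import Cfsg.Agent.S3277

/-!
# Brauer–Suzuki–Wall, abstract form (towards S3282): the case `|K| = 2`, part b

(author: helper5)  If `C(t)` (a four-group) is not normal then `G ≃ A₅` by S3277, so `|G| = 60`; the conclusion holds
with `Q = C(x)` for an element `x` of order 5 and `D = ⟨u⟩` for an involution `u` inverting `x`.
-/

set_option autoImplicit false
set_option linter.unusedVariables false
set_option linter.unusedSectionVars false
set_option linter.style.haveILetI false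
set_option linter.unusedSimpArgs false

namespace Cfsg.Agent.Lib.Helper5.BSW

open Subgroup Cfsg.Agent.Lib.Lead.BSW

variable {G : Type*} [Group G] {t s : G} {K : Subgroup G}

/-- an involution inverting `g` normalises `C(g)` -/
theorem mem_normalizer_of_inverts [Finite G] (h : Hyp t s K) {g u : G} (hR : InR K g)
    (hu : orderOf u = 2) (hinv : u * g * u⁻¹ = g⁻¹) :
    u ∈ normalizer ((centralizer ({g} : Set G) : Subgroup G) : Set G) := by
  have huu : u * u = 1 := mul_self_of_orderOf_two hu
  have huinv : u⁻¹ = u := inv_eq_self_of_orderOf_two hu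
  rw [mem_normalizer_iff]
  intro a
  have hstab : ∀ b ∈ centralizer ({g} : Set G), u * b * u⁻¹ ∈ centralizer ({g} : Set G) := by
    intro b hb
    rw [h.inverts_centralizer hR hu hinv b hb]; exact inv_mem hb
  constructor
  · exact hstab a
  · intro ha
    have := hstab _ ha
    have e : u * (u * a * u⁻¹) * u⁻¹ = a := by
      rw [huinv]
      calc u * (u * a * u) * u = (u * u) * a * (u * u) := by group
        _ = a := by rw [huu, one_mul, mul_one]
    rwa [e] at this

namespace K2

/-- a normal elementary abelian subgroup of order 2 or 4 is the centraliser of an involution -/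
theorem exists_normal_H [Finite G] (h : Hyp t s K) (hK : Nat.card K = 2) (E : Subgroup G)
    (hE : E.Normal) (hEA : Cfsg.IsElementaryAbelian 2 E) (hcard : Nat.card E = 2 ∨ Nat.card E = 4) :
    ∃ y : G, (centralizer ({y * t * y⁻¹} : Set G)).Normal := by
  have hE1 : E ≠ ⊥ := by
    rw [← Subgroup.one_lt_card_iff_ne_bot]
    rcases hcard with hc | hc <;> omega
  obtain ⟨z, hz1⟩ := (Subgroup.ne_bot_iff_exists_ne_one).1 hE1
  have hzE : (z : G) ∈ E := z.2
  have hz1' : (z : G) ≠ 1 := fun e => hz1 (Subtype.ext e)
  have hzz : (z : G) * z = 1 := by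
    have := hEA.2 z hzE
    rwa [pow_two] at this
  have hzo : orderOf (z : G) = 2 := orderOf_two_of hz1' hzz
  obtain ⟨y, hy⟩ := h.exists_conj_eq hzo
  refine ⟨y, ?_⟩
  rw [← hy]
  have h' := h.conj_hyp y
  rw [← hy] at h'
  have hK' : Nat.card (K.map (MulAut.conj y).toMonoidHom) = 2 := by rw [card_map_conj]; exact hK
  have hle : E ≤ centralizer ({(z : G)} : Set G) := by
    intro e he
    rw [mem_centralizer_singleton]
    have := hEA.1.is_comm.comm (⟨e, he⟩ : E) z
    exact congrArg Subtype.val this
  rcases hcard with hc | hc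
  · -- z is central
    have htop : centralizer ({(z : G)} : Set G) = ⊤ := by
      rw [eq_top_iff]
      intro g _
      rw [mem_centralizer_singleton]
      obtain ⟨w, hw, hwu⟩ := (Nat.card_eq_two_iff' (1 : E)).1 hc
      have hgz : g * z * g⁻¹ ∈ E := hE.conj_mem z hzE g
      have h1 : (⟨g * z * g⁻¹, hgz⟩ : E) = w := by
        apply hwu
        intro e1
        have : g * z * g⁻¹ = 1 := congrArg Subtype.val e1
        apply hz1'
        calc (z : G) = g⁻¹ * (g * z * g⁻¹) * g := by group
          _ = 1 := by rw [this]; group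
      have h2 : z = w := hwu z hz1
      have h3 : g * z * g⁻¹ = z := by
        have := h1.trans h2.symm
        exact congrArg Subtype.val this
      calc g * z = (g * z * g⁻¹) * g := by group
        _ = z * g := by rw [h3]
    rw [htop]
    infer_instance
  · have heq : E = centralizer ({(z : G)} : Set G) := by
      apply Subgroup.eq_of_le_of_card_ge hle
      rw [card_H h' hK', hc]
    rw [← heq]; exact hE

/-- `G` has no normal 2-complement -/
theorem not_hasNormalPComplement [Finite G] (h : Hyp t s K) (hK : Nat.card K = 2) :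
    ¬ Cfsg.HasNormalPComplement 2 G := by
  rintro ⟨P, N, hN, hc⟩
  haveI : Fact (Nat.Prime 2) := ⟨Nat.prime_two⟩
  have h4G : 2 ^ 2 ∣ Nat.card G := by
    have : Nat.card (centralizer ({t} : Set G)) ∣ Nat.card G := Subgroup.card_subgroup_dvd_card _
    rw [card_H h hK] at this
    exact this
  have h4P : 2 ^ 2 ∣ Nat.card P := P.pow_dvd_card_of_pow_dvd_card h4G
  haveI : Nontrivial P := by
    rw [← Finite.one_lt_card_iff_nontrivial]
    have := Nat.le_of_dvd Nat.card_pos h4P
    omega
  haveI hZ : Nontrivial (Subgroup.center P) := P.isPGroup'.center_nontrivial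
  have hZp : IsPGroup 2 (Subgroup.center P) := P.isPGroup'.to_subgroup _
  have h2Z : 2 ∣ Nat.card (Subgroup.center P) := by
    rcases hZp.card_eq_or_dvd with h1 | h1
    · have := Finite.one_lt_card_iff_nontrivial.2 hZ
      omega
    · exact h1
  obtain ⟨z, hz⟩ := exists_prime_orderOf_dvd_card' 2 h2Z
  have hzo : orderOf (((z : P) : G)) = 2 := by
    have e1 : orderOf (((z : P) : G)) = orderOf (z : P) := Subgroup.orderOf_coe (z : P)
    have e2 : orderOf (z : P) = orderOf z := Subgroup.orderOf_coe z
    rw [e1, e2, hz]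
  obtain ⟨y, hy⟩ := h.exists_conj_eq hzo
  have h' := h.conj_hyp y
  rw [← hy] at h'
  have hK' : Nat.card (K.map (MulAut.conj y).toMonoidHom) = 2 := by rw [card_map_conj]; exact hK
  have hPle : (P : Subgroup G) ≤ centralizer ({((z : P) : G)} : Set G) := by
    intro p hp
    rw [mem_centralizer_singleton]
    have := Subgroup.mem_center_iff.1 z.2 ⟨p, hp⟩
    have := congrArg Subtype.val this
    exact this
  have hP4 : Nat.card P = 4 := by
    have h1 := Subgroup.card_dvd_of_le hPle
    rw [card_H h' hK'] at h1
    have h2 := Nat.le_of_dvd (by norm_num) h1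
    have h3 := Nat.le_of_dvd Nat.card_pos h4P
    have h1' : Nat.card (P : Subgroup G) ≤ 4 := h2
    have h3' : 4 ≤ Nat.card (P : Subgroup G) := h3
    omega
  -- the quotient has order 4
  have hmul := hc.card_mul
  have hq : Nat.card (G ⧸ N) = 2 ^ 2 := by
    have h1 := Subgroup.card_eq_card_quotient_mul_card_subgroup N
    have hNpos : 0 < Nat.card N := Nat.card_pos
    have hP4' : Nat.card (P : Subgroup G) = 4 := hP4
    rw [hP4'] at hmul
    have : Nat.card (G ⧸ N) * Nat.card N = 4 * Nat.card N := by rw [← h1, ← hmul, mul_comm]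
    have := Nat.eq_of_mul_eq_mul_right hNpos this
    rw [this]; norm_num
  have hcomm := IsPGroup.commutative_of_card_eq_prime_sq hq
  -- t⁻¹ s ∈ N
  obtain ⟨c, hcs⟩ := isConj_iff.1 (h.conj t s h.ht h.hs)
  have hts : t⁻¹ * s ∈ N := by
    rw [← QuotientGroup.eq (s := N)]
    rw [← hcs]
    have : ((c * t * c⁻¹ : G) : G ⧸ N) = (c : G ⧸ N) * (t : G ⧸ N) * (c : G ⧸ N)⁻¹ := rfl
    rw [this, hcomm (c : G ⧸ N) (t : G ⧸ N), mul_assoc, mul_inv_cancel, mul_one]
  rw [h.tinv] at hts
  have hts2 : orderOf (t * s) = 2 := by
    apply h.orderOf_of_mul_s_mem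
    rw [mul_assoc, h.ss, mul_one]; exact h.tK
  -- but N has odd order
  have hNodd : ¬ 2 ∣ Nat.card N := by
    have hidx : Nat.card N = (P : Subgroup G).index := by
      have h1 := (P : Subgroup G).card_mul_index
      have hPpos : 0 < Nat.card (P : Subgroup G) := Nat.card_pos
      have : Nat.card (P : Subgroup G) * Nat.card N = Nat.card (P : Subgroup G) * (P : Subgroup G).index := by
        rw [h1, ← hmul, mul_comm]
      exact Nat.eq_of_mul_eq_mul_left hPpos this
    rw [hidx]
    exact P.not_dvd_index
  apply hNodd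
  rw [← hts2]
  exact Subgroup.orderOf_dvd_natCard N hts

/-- the conclusion when `|G| = 60` -/
theorem concl_of_card_60 [Finite G] (h : Hyp t s K) (hK : Nat.card K = 2) (hG : Nat.card G = 60) :
    Concl G := by
  haveI : Fact (Nat.Prime 5) := ⟨by norm_num⟩
  haveI : Fact (Nat.Prime 2) := ⟨Nat.prime_two⟩
  let P : Sylow 5 G := default
  -- |P| = 5
  have hP5 : Nat.card (P : Subgroup G) = 5 := by
    have h1 : 5 ∣ Nat.card (P : Subgroup G) := P.dvd_card_of_dvd_card (by rw [hG]; norm_num)
    have h2 : Nat.card (P : Subgroup G) ∣ 60 := by rw [← hG]; exact Subgroup.card_subgroup_dvd_card _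
    obtain ⟨n, hn⟩ := (P.isPGroup').exists_card_eq
    have hn' : Nat.card (P : Subgroup G) = 5 ^ n := hn
    rcases n with _ | _ | n
    · rw [hn'] at h1; norm_num at h1
    · rw [hn']; norm_num
    · exfalso
      rw [hn'] at h2
      have : 5 ^ 2 ∣ 60 := dvd_trans (pow_dvd_pow 5 (by omega)) h2
      norm_num at this
  -- elements of P^# lie in no conjugate of K
  have hPR : ∀ b ∈ (P : Subgroup G), b ≠ 1 → InR K b := by
    intro b hb hb1
    apply inR h hK
    intro hbb
    have ho := orderOf_two_of hb1 hbb
    have := Subgroup.orderOf_dvd_natCard (P : Subgroup G) hb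
    rw [ho, hP5] at this
    norm_num at this
  -- a generator
  have hPne : (P : Subgroup G) ≠ ⊥ := by
    rw [← Subgroup.one_lt_card_iff_ne_bot, hP5]; norm_num
  obtain ⟨x, hx1⟩ := (Subgroup.ne_bot_iff_exists_ne_one).1 hPne
  have hxP : (x : G) ∈ (P : Subgroup G) := x.2
  have hx1' : (x : G) ≠ 1 := fun e => hx1 (Subtype.ext e)
  have hxR : InR K (x : G) := hPR x hxP hx1'
  have hxo : orderOf (x : G) = 5 := by
    have := Subgroup.orderOf_dvd_natCard (P : Subgroup G) hxP
    rw [hP5] at this
    rcases (Nat.dvd_prime (by norm_num : Nat.Prime 5)).1 this with h1 | h1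
    · exact absurd (orderOf_eq_one_iff.1 h1) hx1'
    · exact h1
  have hzP : zpowers (x : G) = (P : Subgroup G) := by
    apply Subgroup.eq_of_le_of_card_ge
    · rw [zpowers_le]; exact hxP
    · rw [hP5, Nat.card_zpowers, hxo]
  -- the normaliser of P
  have hn5 : Nat.card (Sylow 5 G) = 1 ∨ Nat.card (Sylow 5 G) = 6 := by
    have h1 := card_sylow_modEq_one 5 G
    have h2 := P.card_dvd_index
    have h3 : (P : Subgroup G).index = 12 := by
      have := (P : Subgroup G).card_mul_index
      rw [hP5, hG] at this
      omega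
    rw [h3] at h2
    have h4 := Nat.le_of_dvd (by norm_num) h2
    unfold Nat.ModEq at h1
    generalize Nat.card (Sylow 5 G) = n at *
    interval_cases n <;> omega
  have hNidx : (normalizer ((P : Subgroup G) : Set G)).index = Nat.card (Sylow 5 G) :=
    (P.card_eq_index_normalizer).symm
  have hNmul := (normalizer ((P : Subgroup G) : Set G)).card_mul_index
  rw [hNidx, hG] at hNmul
  -- Sylow 5 is not normal
  have hn5' : Nat.card (Sylow 5 G) = 6 := by
    rcases hn5 with h1 | h6
    · exfalso
      have htop : normalizer ((P : Subgroup G) : Set G) = ⊤ := by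
        rw [← Subgroup.index_eq_one, hNidx, h1]
      have ht' := inverts_of_normalizes_R h hPR h.ht (by rw [htop]; exact mem_top t) x hxP
      have hs' := inverts_of_normalizes_R h hPR h.hs (by rw [htop]; exact mem_top s) x hxP
      have hts2 : orderOf (t * s) = 2 := by
        apply h.orderOf_of_mul_s_mem
        rw [mul_assoc, h.ss, mul_one]; exact h.tK
      apply h.not_commute_invol hxR hts2
      -- t s x = x t s
      have e1 : s * (x : G) = (x : G)⁻¹ * s := by
        calc s * (x : G) = (s * x * s⁻¹) * s := by group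
          _ = (x : G)⁻¹ * s := by rw [hs']
      have e2 : t * (x : G)⁻¹ = (x : G) * t := by
        have e' : t * (x : G)⁻¹ * t⁻¹ = x := by
          have e'' : (t * (x : G) * t⁻¹)⁻¹ = t * (x : G)⁻¹ * t⁻¹ := by group
          rw [← e'', ht', inv_inv]
        calc t * (x : G)⁻¹ = (t * (x : G)⁻¹ * t⁻¹) * t := by group
          _ = (x : G) * t := by rw [e']
      calc t * s * (x : G) = t * (s * x) := by group
        _ = t * ((x : G)⁻¹ * s) := by rw [e1]
        _ = (t * (x : G)⁻¹) * s := by group
        _ = (x : G) * t * s := by rw [e2]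
        _ = (x : G) * (t * s) := by group
    · exact h6
  rw [hn5'] at hNmul
  have hN10 : Nat.card (normalizer ((P : Subgroup G) : Set G)) = 10 := by omega
  -- an involution in N(P)
  obtain ⟨u0, hu0⟩ := exists_prime_orderOf_dvd_card' (G := normalizer ((P : Subgroup G) : Set G)) 2
    (by rw [hN10]; norm_num)
  have hu : orderOf (u0 : G) = 2 := by rw [← hu0]; exact (Subgroup.orderOf_coe u0)
  have huN : (u0 : G) ∈ normalizer ((P : Subgroup G) : Set G) := u0.2
  have hinv := inverts_of_normalizes_R h hPR hu huN x hxP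
  -- |C(x)| = 5
  have hCle : centralizer ({(x : G)} : Set G) ≤ normalizer ((P : Subgroup G) : Set G) := by
    intro a ha
    rw [mem_centralizer_singleton] at ha
    have hcomm : ∀ p ∈ (P : Subgroup G), a * p * a⁻¹ = p := by
      intro p hp
      rw [← hzP] at hp
      obtain ⟨k, rfl⟩ := mem_zpowers_iff.1 hp
      have hc : Commute a (x : G) := ha
      have := (hc.zpow_right k).eq
      rw [this, mul_assoc, mul_inv_cancel, mul_one]
    rw [mem_normalizer_iff]
    intro p
    constructor
    · intro hp; rw [hcomm p hp]; exact hp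
    · intro hp
      have h5 : a * (a * p * a⁻¹) * a⁻¹ = a * p * a⁻¹ := hcomm _ hp
      have e2 : a * p * a⁻¹ = p := by
        calc a * p * a⁻¹ = a⁻¹ * (a * (a * p * a⁻¹) * a⁻¹) * a := by group
          _ = a⁻¹ * (a * p * a⁻¹) * a := by rw [h5]
          _ = p := by group
      rw [e2] at hp; exact hp
  have hC5 : Nat.card (centralizer ({(x : G)} : Set G)) = 5 := by
    have h1 : Nat.card (centralizer ({(x : G)} : Set G)) ∣ 10 := by
      rw [← hN10]; exact Subgroup.card_dvd_of_le hCle
    have h2 : 5 ∣ Nat.card (centralizer ({(x : G)} : Set G)) := by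
      have : zpowers (x : G) ≤ centralizer ({(x : G)} : Set G) := by
        rw [zpowers_le, mem_centralizer_singleton]
      have := Subgroup.card_dvd_of_le this
      rwa [Nat.card_zpowers, hxo] at this
    have h3 : ¬ 2 ∣ Nat.card (centralizer ({(x : G)} : Set G)) := by
      apply not_two_dvd_card_of_no_invol
      intro b hb hb2
      rw [mem_centralizer_singleton] at hb
      exact h.not_commute_invol hxR hb2 hb
    have hle := Nat.le_of_dvd (by norm_num) h1
    generalize Nat.card (centralizer ({(x : G)} : Set G)) = n at *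
    interval_cases n <;> omega
  obtain ⟨y, hy⟩ := h.exists_conj_eq hu
  have h' := h.conj_hyp y
  rw [← hy] at h'
  have hK' : Nat.card (K.map (MulAut.conj y).toMonoidHom) = 2 := by rw [card_map_conj]; exact hK
  apply conclusion_of_pair h hxR hu hinv hy
  · rw [hC5, hG]
  · rw [hC5, hK]
  · intro k hk
    rcases mem_K h' hK' hk with e | e
    · rw [e]; exact one_mem _
    · rw [e]; exact mem_normalizer_of_inverts h hxR hu hinv

/-- the case `|K| = 2` of the abstract Brauer–Suzuki–Wall theorem -/
theorem concl [Finite G] (h : Hyp t s K) (hK : Nat.card K = 2) : Concl G := by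
  by_cases hne : ∃ E : Subgroup G, E.Normal ∧ Cfsg.IsElementaryAbelian 2 E ∧
      (Nat.card E = 2 ∨ Nat.card E = 4)
  · obtain ⟨E, hE, hEA, hc⟩ := hne
    obtain ⟨y, hy⟩ := exists_normal_H h hK E hE hEA hc
    exact concl_of_normal (h.conj_hyp y) (by rw [card_map_conj]; exact hK) hy
  · have hnc := not_hasNormalPComplement h hK
    obtain ⟨e⟩ := Cfsg.Agent.S3277.result t h.ht (card_H h hK)
      (fun c hc => by rw [pow_two]; exact sq_of_mem_H h hK hc) hnc
      (by
        intro E hE hEA
        constructor
        · intro hc; exact hne ⟨E, hE, hEA, Or.inl hc⟩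
        · intro hc; exact hne ⟨E, hE, hEA, Or.inr hc⟩)
    have hG : Nat.card G = 60 := by
      rw [Nat.card_congr e.toEquiv, nat_card_alternatingGroup, Nat.card_fin]
      decide
    exact concl_of_card_60 h hK hG

end K2

end Cfsg.Agent.Lib.Helper5.BSW
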