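import Mathlib
import Cfsg.Agent.Lib.Helper5.BSW.Concl

/-!
# Brauer–Suzuki–Wall, abstract form (towards S3282): conjugation invariance, TI counting

(author: helper5)  `beta` and centraliser orders are invariant under conjugation; the centraliser `A = C(g)` of a
strongly real `g` in no conjugate of `K` is a TI subgroup; the counting inequality
`|G : N(A)| (|A| - 1) ≤ #S` for a conjugation invariant set `S ⊇ A^#`, and `|N(A)| ≤ |A| |N(A) ∩ K_u|`.
-/

set_option autoImplicit false
set_option linter.unusedVariables false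
set_option linter.unusedSectionVars false
set_option linter.style.haveILetI false
set_option linter.unusedSimpArgs false

namespace Cfsg.Agent.Lib.Helper5.BSW

open Subgroup Cfsg.Agent.Lib.Lead.BSW

variable {G : Type*} [Group G] {t s : G} {K : Subgroup G}

theorem orderOf_conj_eq (w a : G) : orderOf (w * a * w⁻¹) = orderOf a := by
  have := orderOf_injective (MulAut.conj w).toMonoidHom (MulAut.conj w).injective a
  have e : (MulAut.conj w).toMonoidHom a = w * a * w⁻¹ := rfl
  rw [e] at this; exact this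

theorem mem_centralizer_conj_iff {a w b : G} :
    w * b * w⁻¹ ∈ centralizer ({w * a * w⁻¹} : Set G) ↔ b ∈ centralizer ({a} : Set G) := by
  rw [mem_centralizer_singleton, mem_centralizer_singleton]
  constructor
  · intro hy
    have e1 : b * a = w⁻¹ * (w * b * w⁻¹ * (w * a * w⁻¹)) * w := by group
    rw [e1, hy]; group
  · intro hy
    have e1 : w * b * w⁻¹ * (w * a * w⁻¹) = w * (b * a) * w⁻¹ := by group
    rw [e1, hy]; group

theorem mem_centralizer_conj_iff' {a w b : G} :
    b ∈ centralizer ({w * a * w⁻¹} : Set G) ↔ w⁻¹ * b * w ∈ centralizer ({a} : Set G) := by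
  rw [← mem_centralizer_conj_iff (w := w) (a := a) (b := w⁻¹ * b * w)]
  have : w * (w⁻¹ * b * w) * w⁻¹ = b := by group
  rw [this]

theorem card_centralizer_conj (w a : G) :
    Nat.card (centralizer ({w * a * w⁻¹} : Set G)) = Nat.card (centralizer ({a} : Set G)) := by
  apply Nat.card_congr
  refine
    { toFun := fun b => ⟨w⁻¹ * b.1 * w, mem_centralizer_conj_iff'.1 b.2⟩
      invFun := fun b => ⟨w * b.1 * w⁻¹, mem_centralizer_conj_iff.2 b.2⟩
      left_inv := ?_
      right_inv := ?_ }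
  · intro b
    apply Subtype.ext
    show w * (w⁻¹ * b.1 * w) * w⁻¹ = b.1
    group
  · intro b
    apply Subtype.ext
    show w⁻¹ * (w * b.1 * w⁻¹) * w = b.1
    group

theorem beta_conj (w g : G) : Lead.BSW.beta (w * g * w⁻¹) = Lead.BSW.beta g := by
  unfold Lead.BSW.beta
  apply Nat.card_congr
  refine
    { toFun := fun p => ⟨(w⁻¹ * p.1.1 * w, w⁻¹ * p.1.2 * w), ?_, ?_, ?_⟩
      invFun := fun p => ⟨(w * p.1.1 * w⁻¹, w * p.1.2 * w⁻¹), ?_, ?_, ?_⟩
      left_inv := ?_
      right_inv := ?_ }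
  · have := orderOf_conj_eq w⁻¹ p.1.1
    rw [inv_inv] at this
    show orderOf (w⁻¹ * p.1.1 * w) = 2
    rw [this]; exact p.2.1
  · have := orderOf_conj_eq w⁻¹ p.1.2
    rw [inv_inv] at this
    show orderOf (w⁻¹ * p.1.2 * w) = 2
    rw [this]; exact p.2.2.1
  · show w⁻¹ * p.1.1 * w * (w⁻¹ * p.1.2 * w) = g
    have : w⁻¹ * p.1.1 * w * (w⁻¹ * p.1.2 * w) = w⁻¹ * (p.1.1 * p.1.2) * w := by group
    rw [this, p.2.2.2]; group
  · show orderOf (w * p.1.1 * w⁻¹) = 2
    rw [orderOf_conj_eq]; exact p.2.1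
  · show orderOf (w * p.1.2 * w⁻¹) = 2
    rw [orderOf_conj_eq]; exact p.2.2.1
  · show w * p.1.1 * w⁻¹ * (w * p.1.2 * w⁻¹) = w * g * w⁻¹
    have : w * p.1.1 * w⁻¹ * (w * p.1.2 * w⁻¹) = w * (p.1.1 * p.1.2) * w⁻¹ := by group
    rw [this, p.2.2.2]
  · intro p
    apply Subtype.ext
    apply Prod.ext
    · show w * (w⁻¹ * p.1.1 * w) * w⁻¹ = p.1.1
      group
    · show w * (w⁻¹ * p.1.2 * w) * w⁻¹ = p.1.2
      group
  · intro p
    apply Subtype.ext
    apply Prod.ext
    · show w⁻¹ * (w * p.1.1 * w⁻¹) * w = p.1.1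
      group
    · show w⁻¹ * (w * p.1.2 * w⁻¹) * w = p.1.2
      group

theorem InU.conj {g : G} (hg : InU K g) (w : G) : InU K (w * g * w⁻¹) :=
  ⟨hg.1.conj w, by rw [beta_conj]; exact hg.2⟩

/-- a product of two involutions is inverted by an involution -/
theorem exists_invol_of_beta_ne_zero [Finite G] {g : G} (hb : Lead.BSW.beta g ≠ 0) :
    ∃ u : G, orderOf u = 2 ∧ u * g * u⁻¹ = g⁻¹ := by
  unfold Lead.BSW.beta at hb
  have hne : Nonempty {p : G × G // orderOf p.1 = 2 ∧ orderOf p.2 = 2 ∧ p.1 * p.2 = g} := by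
    by_contra hne
    rw [not_nonempty_iff] at hne
    exact hb Nat.card_of_isEmpty
  obtain ⟨⟨p, h1, h2, h3⟩⟩ := hne
  exact ⟨p.1, h1, Hyp.inverts_of_factor h1 h2 h3⟩

/-- the centraliser of a strongly real element in no conjugate of `K` is a TI subgroup -/
theorem ti_centralizer [Finite G] (h : Hyp t s K) {g u : G} (hR : InR K g) (hu : orderOf u = 2)
    (hinv : u * g * u⁻¹ = g⁻¹) :
    ∀ a ∈ centralizer ({g} : Set G), a ≠ 1 → ∀ w : G, w * a * w⁻¹ ∈ centralizer ({g} : Set G) →
      w ∈ normalizer ((centralizer ({g} : Set G) : Subgroup G) : Set G) := by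
  intro a ha ha1 w hw
  have e1 := h.centralizer_eq hR hu hinv ha ha1
  have hw1 : w * a * w⁻¹ ≠ 1 := by
    intro h1
    apply ha1
    have : a = w⁻¹ * (w * a * w⁻¹) * w := by group
    rw [this, h1]; group
  have e2 := h.centralizer_eq hR hu hinv hw hw1
  rw [mem_normalizer_iff]
  intro b
  constructor
  · intro hb
    rw [← e1] at hb
    rw [← e2]
    exact mem_centralizer_conj_iff.2 hb
  · intro hb
    rw [← e2] at hb
    rw [← e1]
    exact mem_centralizer_conj_iff.1 hb

/-- counting the conjugates of a TI subgroup inside a conjugation invariant set -/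
theorem card_conj_le [Finite G] (A : Subgroup G)
    (hTI : ∀ a ∈ A, a ≠ 1 → ∀ w : G, w * a * w⁻¹ ∈ A → w ∈ normalizer (A : Set G))
    (S : G → Prop) (hS : ∀ a ∈ A, a ≠ 1 → ∀ x : G, S (x * a * x⁻¹)) :
    (normalizer (A : Set G)).index * (Nat.card A - 1) ≤ Nat.card {g : G // S g} := by
  have hA : Nat.card {y : A // y ≠ 1} = Nat.card A - 1 := by
    classical
    haveI : Fintype A := Fintype.ofFinite A
    rw [Nat.card_eq_fintype_card, Nat.card_eq_fintype_card, Fintype.card_subtype_compl,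
      Fintype.card_subtype_eq]
  rw [← hA, Subgroup.index_eq_card, ← Nat.card_prod]
  let f : ((G ⧸ normalizer (A : Set G)) × {y : A // y ≠ 1}) → {g : G // S g} := fun p =>
    ⟨(Quotient.out p.1 : G) * (p.2.1 : G) * (Quotient.out p.1 : G)⁻¹,
      hS _ p.2.1.2 (fun e => p.2.2 (Subtype.ext e)) _⟩
  apply Nat.card_le_card_of_injective f
  rintro ⟨c, y⟩ ⟨c', y'⟩ hpp
  have hpp' : (Quotient.out c : G) * (y.1 : G) * (Quotient.out c : G)⁻¹
      = (Quotient.out c' : G) * (y'.1 : G) * (Quotient.out c' : G)⁻¹ := congrArg Subtype.val hpp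
  set x := (Quotient.out c : G) with hx
  set x' := (Quotient.out c' : G) with hx'
  have hz : (x'⁻¹ * x) * (y.1 : G) * (x'⁻¹ * x)⁻¹ = (y'.1 : G) := by
    have : (x'⁻¹ * x) * (y.1 : G) * (x'⁻¹ * x)⁻¹ = x'⁻¹ * (x * (y.1 : G) * x⁻¹) * x' := by group
    rw [this, hpp']; group
  have hy1 : (y.1 : G) ≠ 1 := fun e => y.2 (Subtype.ext e)
  have hzN : x'⁻¹ * x ∈ normalizer (A : Set G) := by
    apply hTI _ y.1.2 hy1
    rw [hz]; exact y'.1.2
  have hcc : c = c' := by
    have e1 : c' = QuotientGroup.mk x' := (Quotient.out_eq' c').symm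
    have e2 : c = QuotientGroup.mk x := (Quotient.out_eq' c).symm
    rw [e1, e2]
    exact (QuotientGroup.eq.2 hzN).symm
  subst hcc
  have hyy : (y.1 : G) = (y'.1 : G) := by
    have : x'⁻¹ * x = 1 := by rw [hx, hx']; group
    rw [this] at hz
    simpa using hz
  have : y = y' := Subtype.ext (Subtype.ext hyy)
  rw [this]

/-- `|N(A)| ≤ |A| · |N(A) ∩ K_u|` -/
theorem card_normalizer_le [Finite G] (h : Hyp t s K) {g u y : G} (hR : InR K g)
    (hu : orderOf u = 2) (hinv : u * g * u⁻¹ = g⁻¹) (hy : u = y * t * y⁻¹) :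
    Nat.card (normalizer ((centralizer ({g} : Set G) : Subgroup G) : Set G)) ≤
      Nat.card (centralizer ({g} : Set G)) *
        Nat.card ((normalizer ((centralizer ({g} : Set G) : Subgroup G) : Set G) ⊓
          K.map (MulAut.conj y).toMonoidHom : Subgroup G)) := by
  rw [← Nat.card_prod]
  let f : (centralizer ({g} : Set G)) ×
      ((normalizer ((centralizer ({g} : Set G) : Subgroup G) : Set G) ⊓
          K.map (MulAut.conj y).toMonoidHom : Subgroup G)) →
      normalizer ((centralizer ({g} : Set G) : Subgroup G) : Set G) := fun p =>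
    ⟨(p.1 : G) * (p.2 : G), mul_mem (le_normalizer p.1.2) (mem_inf.1 p.2.2).1⟩
  apply Nat.card_le_card_of_surjective f
  rintro ⟨z, hz⟩
  obtain ⟨c, hc, hcu⟩ := h.normalizer_factor hR hu hinv hz
  have hcz : c⁻¹ * z ∈ normalizer ((centralizer ({g} : Set G) : Subgroup G) : Set G) :=
    mul_mem (inv_mem (le_normalizer hc)) hz
  have hD := h.normalizer_inf_le hR hu hinv hy hcz hcu
  refine ⟨(⟨c, hc⟩, ⟨c⁻¹ * z, mem_inf.2 ⟨hcz, hD⟩⟩), ?_⟩
  apply Subtype.ext
  show c * (c⁻¹ * z) = z
  group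

end Cfsg.Agent.Lib.Helper5.BSW
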