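import Mathlib
import Cfsg.Agent.Lib.Helper5.BSW.TI

/-!
# Brauer–Suzuki–Wall, abstract form (towards S3282): the end game for `δ = +1`

(author: helper5)  From `BB1 K q 1`: take `g` in no conjugate of `K` with `beta g = q`; `Q := C(g)` has order `q`;
counting its conjugates inside `{beta = q}` gives `K_u ≤ N(Q)`; conclude with `conclusion_of_pair`.
-/

set_option autoImplicit false
set_option linter.unusedVariables false
set_option linter.unusedSectionVars false
set_option linter.style.haveILetI false
set_option linter.unusedSimpArgs false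

namespace Cfsg.Agent.Lib.Helper5.BSW

open Subgroup Cfsg.Agent.Lib.Lead.BSW

variable {G : Type*} [Group G] {t s : G} {K : Subgroup G}

/-- `beta a = |C(g)|` for `1 ≠ a ∈ C(g)`, `g` strongly real in no conjugate of `K` -/
theorem beta_of_mem_centralizer [Finite G] (h : Hyp t s K) {g u a : G} (hR : InR K g)
    (hu : orderOf u = 2) (hinv : u * g * u⁻¹ = g⁻¹) (ha : a ∈ centralizer ({g} : Set G))
    (ha1 : a ≠ 1) : Lead.BSW.beta a = Nat.card (centralizer ({g} : Set G)) := by
  have hRa := h.inR_of_mem_centralizer hR ha ha1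
  have hinva := h.inverts_centralizer hR hu hinv a ha
  rw [h.beta_eq_card_centralizer hRa hu hinva, h.centralizer_eq hR hu hinv ha ha1]

theorem plus_concl [Finite G] (h : Hyp t s K) (q : ℕ) (hB : BB1 K q 1) : Concl G := by
  obtain ⟨_, hq, hG, hbeta, hcount⟩ := hB
  have hk1 : 1 ≤ Nat.card K := Nat.card_pos
  have hqk : q = 2 * Nat.card K + 1 := by exact_mod_cast hq
  set k := Nat.card K with hkdef
  have hq3 : 3 ≤ q := by omega
  have hsq : q ^ 2 = (2 * k + 2) * (2 * k) + 1 := by rw [hqk]; ring
  have hne : Nonempty {g : G // InR K g ∧ (((1 : ℤ) = 1 ∧ Lead.BSW.beta g = q) ∨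
      ((1 : ℤ) = -1 ∧ Lead.BSW.beta g = 0))} := by
    by_contra hne
    rw [not_nonempty_iff] at hne
    rw [Nat.card_of_isEmpty] at hcount
    have : 0 < (2 * k + 2) * (2 * k) := by positivity
    omega
  obtain ⟨⟨g, hR, hg⟩⟩ := hne
  have hbg : Lead.BSW.beta g = q := by
    rcases hg with ⟨_, h1⟩ | ⟨h1, _⟩
    · exact h1
    · norm_num at h1
  obtain ⟨u, hu, hinv⟩ := exists_invol_of_beta_ne_zero (g := g) (by rw [hbg]; omega)
  have hcq : Nat.card (centralizer ({g} : Set G)) = q := by
    rw [← h.beta_eq_card_centralizer hR hu hinv, hbg]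
  obtain ⟨y, hy⟩ := h.exists_conj_eq hu
  have hTI := ti_centralizer h hR hu hinv
  have hcnt := card_conj_le (centralizer ({g} : Set G)) hTI
    (fun g' => InR K g' ∧ (((1 : ℤ) = 1 ∧ Lead.BSW.beta g' = q) ∨
      ((1 : ℤ) = -1 ∧ Lead.BSW.beta g' = 0)))
    (by
      intro a ha ha1 x
      refine ⟨(h.inR_of_mem_centralizer hR ha ha1).conj x, Or.inl ⟨rfl, ?_⟩⟩
      rw [beta_conj, beta_of_mem_centralizer h hR hu hinv ha ha1, hcq])
  rw [hcount, hcq] at hcnt
  have hNle := card_normalizer_le h hR hu hinv hy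
  rw [hcq] at hNle
  have hmul := (normalizer ((centralizer ({g} : Set G) : Subgroup G) : Set G)).card_mul_index
  have hek : Nat.card ((normalizer ((centralizer ({g} : Set G) : Subgroup G) : Set G) ⊓
      K.map (MulAut.conj y).toMonoidHom : Subgroup G)) ≤ k := by
    rw [hkdef, ← card_map_conj K y]
    exact Subgroup.card_le_of_le inf_le_right
  set n := Nat.card (normalizer ((centralizer ({g} : Set G) : Subgroup G) : Set G)) with hn
  set idx := (normalizer ((centralizer ({g} : Set G) : Subgroup G) : Set G)).index with hidx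
  set e := Nat.card ((normalizer ((centralizer ({g} : Set G) : Subgroup G) : Set G) ⊓
      K.map (MulAut.conj y).toMonoidHom : Subgroup G)) with he
  have h1 : idx ≤ 2 * k + 2 := by
    have h0 : idx * (2 * k) ≤ (2 * k + 2) * (2 * k) := by
      have e1 : q - 1 = 2 * k := by omega
      have e2 : q ^ 2 - 1 = (2 * k + 2) * (2 * k) := by omega
      rw [e1, e2] at hcnt
      exact hcnt
    exact Nat.le_of_mul_le_mul_right h0 (by omega)
  have h2 : n * idx = (2 * k + 1) * (2 * k + 2) * k := by
    have e1 : q - 1 = 2 * k := by omega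
    have e2 : q + 1 = 2 * k + 2 := by omega
    have : 2 * (n * idx) = 2 * ((2 * k + 1) * (2 * k + 2) * k) := by
      rw [hmul, hG, e1, e2, hqk]; ring
    omega
  have h3 : (2 * k + 1) * (2 * k + 2) * k ≤ (2 * k + 1) * (2 * k + 2) * e := by
    calc (2 * k + 1) * (2 * k + 2) * k = n * idx := h2.symm
      _ ≤ (q * e) * (2 * k + 2) := Nat.mul_le_mul hNle h1
      _ = (2 * k + 1) * (2 * k + 2) * e := by rw [hqk]; ring
  have h4 : k ≤ e := Nat.le_of_mul_le_mul_left h3 (by positivity)
  have heq : (normalizer ((centralizer ({g} : Set G) : Subgroup G) : Set G) ⊓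
      K.map (MulAut.conj y).toMonoidHom : Subgroup G) = K.map (MulAut.conj y).toMonoidHom := by
    apply Subgroup.eq_of_le_of_card_ge inf_le_right
    rw [card_map_conj]; exact h4
  have hle : K.map (MulAut.conj y).toMonoidHom ≤
      normalizer ((centralizer ({g} : Set G) : Subgroup G) : Set G) := by
    rw [← heq]; exact inf_le_left
  apply conclusion_of_pair h hR hu hinv hy
  · rw [hcq]; exact hG
  · rw [hcq]; omega
  · exact hle

end Cfsg.Agent.Lib.Helper5.BSW
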