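import Mathlib
import Cfsg.Agent.Lib.Helper5.BSW.Plus
import Cfsg.Agent.Lib.Helper5.BSW.K2b
import Cfsg.Agent.Lib.Helper5.FreeCount
import Cfsg.Agent.Lib.Helper8.BswDA

/-!
# Brauer–Suzuki–Wall, abstract form (towards S3282): the case `δ = -1`, part 1

(author: helper5)  The number of elements in no conjugate of `K`; existence of a strongly real one when `δ = -1`,
`|K| ≥ 4`; for a strongly real `g` in no conjugate of `K` with `D = C(g)`: `2 |D| + 1 = q`, `N(D) = D ⊔ ⟨u⟩`,
`|N(D)| = 2 |D|`, and `N(X) = N(D)` for `1 ≠ X ≤ D`.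
-/

set_option autoImplicit false
set_option linter.unusedVariables false
set_option linter.unusedSectionVars false
set_option linter.style.haveILetI false
set_option linter.unusedSimpArgs false

namespace Cfsg.Agent.Lib.Helper5.BSW

open Subgroup Cfsg.Agent.Lib.Lead.BSW

variable {G : Type*} [Group G] {t s : G} {K : Subgroup G}

/-- `|G| = |R| + 1 + (|K| - 1) i` -/
theorem card_R [Finite G] (h : Hyp t s K) :
    Nat.card {g : G // InR K g} + 1 + (Nat.card K - 1) * Nat.card {u : G // orderOf u = 2}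
      = Nat.card G := by
  classical
  rw [← h.card_conjK]
  haveI : Fintype G := Fintype.ofFinite G
  rw [Nat.card_eq_fintype_card, Nat.card_eq_fintype_card, Nat.card_eq_fintype_card,
    Fintype.card_subtype, Fintype.card_subtype, ← Finset.card_univ]
  have h1 := Finset.card_filter_add_card_filter_not (s := (Finset.univ : Finset G))
    (fun g => InR K g)
  have h2 : (Finset.univ.filter (fun g : G => ¬ InR K g))
      = insert 1 (Finset.univ.filter (fun g : G => g ≠ 1 ∧ ¬ InR K g)) := by
    ext g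
    simp only [Finset.mem_filter, Finset.mem_univ, true_and, Finset.mem_insert]
    constructor
    · intro hg
      by_cases h1 : g = 1
      · exact Or.inl h1
      · exact Or.inr ⟨h1, hg⟩
    · rintro (h1 | ⟨_, h2⟩)
      · rw [h1]; intro hR; exact hR.ne_one rfl
      · exact h2
  have h3 : (1 : G) ∉ Finset.univ.filter (fun g : G => g ≠ 1 ∧ ¬ InR K g) := by
    simp
  rw [h2, Finset.card_insert_of_notMem h3] at h1
  omega

/-- for `δ = -1` and `|K| ≥ 4` there is a strongly real element in no conjugate of `K` -/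
theorem exists_strongly_real [Finite G] (h : Hyp t s K) (hk : 4 ≤ Nat.card K) (q : ℕ)
    (hB : BB1 K q (-1)) : ∃ g : G, InR K g ∧ Lead.BSW.beta g ≠ 0 := by
  obtain ⟨_, hq, hG, hbeta, hcount⟩ := hB
  by_contra hne
  push Not at hne
  have hcR := card_R h
  have hinv := h.card_invol_mul
  have e : {g : G // InR K g} ≃ {g : G // InR K g ∧ (((-1 : ℤ) = 1 ∧ Lead.BSW.beta g = q) ∨
      ((-1 : ℤ) = -1 ∧ Lead.BSW.beta g = 0))} :=
    { toFun := fun g => ⟨g.1, g.2, Or.inr ⟨rfl, hne g.1 g.2⟩⟩
      invFun := fun g => ⟨g.1, g.2.1⟩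
      left_inv := fun g => rfl
      right_inv := fun g => rfl }
  rw [Nat.card_congr e, hcount] at hcR
  clear hbeta hcount e hne
  generalize Nat.card K = k at *
  generalize Nat.card {u : G // orderOf u = 2} = i at *
  generalize Nat.card G = N at *
  have hq1 : q + 1 = 2 * k := by omega
  have hq2 : q - 1 = 2 * k - 2 := by omega
  -- i = (2k-1)(k-1)
  have hi : i = (2 * k - 1) * (k - 1) := by
    have h1 : 2 * (i * (2 * k)) = q * (q + 1) * (q - 1) := by rw [hinv]; exact hG
    rw [hq1, hq2] at h1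
    have hqv : q = 2 * k - 1 := by omega
    rw [hqv] at h1
    have h2 : (2 * k) * (2 * i) = (2 * k) * ((2 * k - 1) * (2 * k - 2)) := by
      calc (2 * k) * (2 * i) = 2 * (i * (2 * k)) := by ring
        _ = (2 * k - 1) * (2 * k) * (2 * k - 2) := h1
        _ = (2 * k) * ((2 * k - 1) * (2 * k - 2)) := by ring
    have h3 := Nat.eq_of_mul_eq_mul_left (by omega : 0 < 2 * k) h2
    have h4 : 2 * k - 2 = 2 * (k - 1) := by omega
    rw [h4] at h3
    have h5 : 2 * i = 2 * ((2 * k - 1) * (k - 1)) := by rw [h3]; ring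
    omega
  -- contradiction
  obtain ⟨m, rfl⟩ : ∃ m, k = m + 4 := ⟨k - 4, by omega⟩
  have hqv : q = 2 * m + 7 := by omega
  have e1 : 2 * (m + 4) - 1 = 2 * m + 7 := by omega
  have e2 : m + 4 - 1 = m + 3 := by omega
  rw [e1, e2] at hi
  rw [hqv, e2, hi] at hcR
  rw [hi] at hinv
  have e3 : (2 * m + 7) ^ 2 - 1 = (2 * m + 7) ^ 2 - 1 := rfl
  have h7 : 1 ≤ (2 * m + 7) ^ 2 := Nat.one_le_pow _ _ (by omega)
  have : ((2 * m + 7) ^ 2 - 1 + 1 + (m + 3) * ((2 * m + 7) * (m + 3)) : ℕ)
      = (2 * m + 7) * (m + 3) * (2 * (m + 4)) := by rw [hcR, hinv]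
  have h8 : ((2 * m + 7) ^ 2 + (m + 3) * ((2 * m + 7) * (m + 3)) : ℕ)
      = (2 * m + 7) * (m + 3) * (2 * (m + 4)) := by omega
  nlinarith [h8]

/-- `2 |C(g)| + 1 = q` for a strongly real `g` in no conjugate of `K` (`δ = -1`) -/
theorem minus_card_D [Finite G] (h : Hyp t s K) (q : ℕ) (hB : BB1 K q (-1)) {g u : G}
    (hR : InR K g) (hu : orderOf u = 2) (hinv : u * g * u⁻¹ = g⁻¹) :
    2 * Nat.card (centralizer ({g} : Set G)) + 1 = q := by
  obtain ⟨_, hq, hG, hbeta, hcount⟩ := hB
  have hb := h.beta_eq_card_centralizer hR hu hinv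
  have hpos : 0 < Nat.card (centralizer ({g} : Set G)) := Nat.card_pos
  rcases (hbeta g hR).2 rfl with h0 | h1
  · omega
  · rw [← hb]; exact h1

/-- the part of `K_u` normalising `D = C(g)` acts freely on `D^#` -/
theorem card_inf_dvd_sub_one [Finite G] (h : Hyp t s K) {g u y : G} (hR : InR K g)
    (hu : orderOf u = 2) (hinv : u * g * u⁻¹ = g⁻¹) (hy : u = y * t * y⁻¹) :
    Nat.card ((normalizer ((centralizer ({g} : Set G) : Subgroup G) : Set G) ⊓
      K.map (MulAut.conj y).toMonoidHom : Subgroup G)) ∣ Nat.card (centralizer ({g} : Set G)) - 1 := by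
  classical
  have h' := h.conj_hyp y
  rw [← hy] at h'
  set E : Subgroup G := (normalizer ((centralizer ({g} : Set G) : Subgroup G) : Set G) ⊓
      K.map (MulAut.conj y).toMonoidHom : Subgroup G) with hE
  letI : MulAction E G := MulAction.compHom G ((MulAut.conj : G →* MulAut G).comp E.subtype)
  have hsmul : ∀ (x : E) (d : G), x • d = (x : G) * d * (x : G)⁻¹ := fun x d => rfl
  haveI : Fintype G := Fintype.ofFinite G
  let T : Finset G := Finset.univ.filter (fun d => d ∈ centralizer ({g} : Set G) ∧ d ≠ 1)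
  have hT : T.card = Nat.card (centralizer ({g} : Set G)) - 1 := by
    have hA : Nat.card {y : centralizer ({g} : Set G) // y ≠ 1}
        = Nat.card (centralizer ({g} : Set G)) - 1 := by
      haveI : Fintype (centralizer ({g} : Set G)) := Fintype.ofFinite _
      rw [Nat.card_eq_fintype_card, Nat.card_eq_fintype_card, Fintype.card_subtype_compl,
        Fintype.card_subtype_eq]
    rw [← hA, ← Fintype.card_subtype, ← Nat.card_eq_fintype_card]
    apply Nat.card_congr
    exact
      { toFun := fun d => ⟨⟨d.1, d.2.1⟩, fun e => d.2.2 (congrArg Subtype.val e)⟩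
        invFun := fun d => ⟨d.1.1, d.1.2, fun e => d.2 (Subtype.ext e)⟩
        left_inv := fun d => rfl
        right_inv := fun d => rfl }
  have key := Cfsg.Agent.Lib.Helper5.FreeCount.card_dvd_of_free (H := E) (α := G) T.card T rfl
    (by
      intro x d hd
      rw [Finset.mem_filter] at hd ⊢
      obtain ⟨-, hd1, hd2⟩ := hd
      refine ⟨Finset.mem_univ _, ?_, ?_⟩
      · rw [hsmul]
        exact (mem_normalizer_iff.1 (mem_inf.1 x.2).1 d).1 hd1
      · rw [hsmul]
        intro h1
        apply hd2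
        have : d = (x : G)⁻¹ * ((x : G) * d * (x : G)⁻¹) * (x : G) := by group
        rw [this, h1]; group)
    (by
      intro x d hd hfix
      rw [Finset.mem_filter] at hd
      obtain ⟨-, hd1, hd2⟩ := hd
      rw [hsmul] at hfix
      by_contra hx1
      have hx1' : (x : G) ≠ 1 := fun e => hx1 (Subtype.ext e)
      have hxK := (mem_inf.1 x.2).2
      have hcomm : d * (x : G) = (x : G) * d := by
        calc d * (x : G) = ((x : G) * d * (x : G)⁻¹) * (x : G) := by rw [hfix]
          _ = (x : G) * d := by group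
      have hdH := h'.mem_H_of_commute hxK hx1' hcomm
      have hRd : InR (K.map (MulAut.conj y).toMonoidHom) d :=
        (h.inR_of_mem_centralizer hR hd1 hd2).map y
      exact h'.not_inR_of_mem_H hdH hRd)
  rwa [hT] at key

/-- `N(D) ∩ K_u = ⟨u⟩` when `|K| ∣`-arithmetic forces it: `δ = -1` -/
theorem minus_inf_eq [Finite G] (h : Hyp t s K) (q : ℕ) (hB : BB1 K q (-1)) {g u y : G}
    (hR : InR K g) (hu : orderOf u = 2) (hinv : u * g * u⁻¹ = g⁻¹) (hy : u = y * t * y⁻¹) :
    (normalizer ((centralizer ({g} : Set G) : Subgroup G) : Set G) ⊓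
      K.map (MulAut.conj y).toMonoidHom : Subgroup G) = zpowers u := by
  have hD := minus_card_D h q hB hR hu hinv
  obtain ⟨_, hq, hG, hbeta, hcount⟩ := hB
  have h' := h.conj_hyp y
  rw [← hy] at h'
  have h1 := card_inf_dvd_sub_one h hR hu hinv hy
  have h2 : Nat.card ((normalizer ((centralizer ({g} : Set G) : Subgroup G) : Set G) ⊓
      K.map (MulAut.conj y).toMonoidHom : Subgroup G)) ∣ Nat.card K := by
    rw [← card_map_conj K y]
    exact Subgroup.card_dvd_of_le inf_le_right
  have hk1 : 1 ≤ Nat.card K := Nat.card_pos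
  have hd1 : 1 ≤ Nat.card (centralizer ({g} : Set G)) := Nat.card_pos
  have h3 := Nat.dvd_sub h2 h1
  have h4 : Nat.card K - (Nat.card (centralizer ({g} : Set G)) - 1) = 2 := by omega
  rw [h4] at h3
  have h5 := Nat.le_of_dvd (by norm_num) h3
  symm
  apply Subgroup.eq_of_le_of_card_ge
  · rw [zpowers_le]
    exact mem_inf.2 ⟨mem_normalizer_of_inverts h hR hu hinv, h'.tK⟩
  · rw [Nat.card_zpowers, hu]; exact h5

/-- `N(D) = D ⊔ ⟨u⟩` (`δ = -1`) -/
theorem minus_normalizer_D [Finite G] (h : Hyp t s K) (q : ℕ) (hB : BB1 K q (-1)) {g u : G}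
    (hR : InR K g) (hu : orderOf u = 2) (hinv : u * g * u⁻¹ = g⁻¹) :
    normalizer ((centralizer ({g} : Set G) : Subgroup G) : Set G)
      = centralizer ({g} : Set G) ⊔ zpowers u := by
  obtain ⟨y, hy⟩ := h.exists_conj_eq hu
  have hE := minus_inf_eq h q hB hR hu hinv hy
  apply le_antisymm
  · intro z hz
    obtain ⟨c, hc, hcu⟩ := h.normalizer_factor hR hu hinv hz
    have hcz : c⁻¹ * z ∈ normalizer ((centralizer ({g} : Set G) : Subgroup G) : Set G) :=
      mul_mem (inv_mem (le_normalizer hc)) hz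
    have hD := h.normalizer_inf_le hR hu hinv hy hcz hcu
    have hmem : c⁻¹ * z ∈ zpowers u := by
      rw [← hE]; exact mem_inf.2 ⟨hcz, hD⟩
    have : z = c * (c⁻¹ * z) := by group
    rw [this]
    exact mul_mem_sup hc hmem
  · apply sup_le le_normalizer
    rw [zpowers_le]
    exact mem_normalizer_of_inverts h hR hu hinv

/-- `|N(D)| = 2 |D|` (`δ = -1`) -/
theorem minus_card_normalizer_D [Finite G] (h : Hyp t s K) (q : ℕ) (hB : BB1 K q (-1)) {g u : G}
    (hR : InR K g) (hu : orderOf u = 2) (hinv : u * g * u⁻¹ = g⁻¹) :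
    Nat.card (normalizer ((centralizer ({g} : Set G) : Subgroup G) : Set G))
      = 2 * Nat.card (centralizer ({g} : Set G)) := by
  rw [minus_normalizer_D h q hB hR hu hinv]
  rw [Cfsg.Agent.Lib.Helper8.BswD.card_sup_of_le_normalizer' (centralizer ({g} : Set G)) (zpowers u)
    (by rw [zpowers_le]; exact mem_normalizer_of_inverts h hR hu hinv)
    (by
      rw [eq_bot_iff]
      intro a ha
      rw [mem_bot]
      obtain ⟨ha1, ha2⟩ := mem_inf.1 ha
      rw [mem_centralizer_singleton] at ha1
      have hau : a * u = u * a := by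
        obtain ⟨n, rfl⟩ := mem_zpowers_iff.1 ha2
        exact ((Commute.refl u).zpow_left n).eq
      exact h.eq_one_of_commute hR hu ha1 hau)]
  rw [Nat.card_zpowers, hu, mul_comm]

/-- `N(X) = N(D)` for `1 ≠ X ≤ D = C(g)` -/
theorem normalizer_eq_of_le_D [Finite G] (h : Hyp t s K) {g u : G}
    (hR : InR K g) (hu : orderOf u = 2) (hinv : u * g * u⁻¹ = g⁻¹)
    (hN : normalizer ((centralizer ({g} : Set G) : Subgroup G) : Set G)
      = centralizer ({g} : Set G) ⊔ zpowers u)
    {X : Subgroup G} (hX : X ≤ centralizer ({g} : Set G)) (hX1 : X ≠ ⊥) :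
    normalizer (X : Set G) = normalizer ((centralizer ({g} : Set G) : Subgroup G) : Set G) := by
  have huu : u * u = 1 := mul_self_of_orderOf_two hu
  have hui : u⁻¹ = u := inv_eq_self_of_orderOf_two hu
  obtain ⟨x, hx1⟩ := (Subgroup.ne_bot_iff_exists_ne_one).1 hX1
  have hxX : (x : G) ∈ X := x.2
  have hx1' : (x : G) ≠ 1 := fun e => hx1 (Subtype.ext e)
  apply le_antisymm
  · intro z hz
    apply ti_centralizer h hR hu hinv (x : G) (hX hxX) hx1' z
    exact hX ((mem_normalizer_iff.1 hz x).1 hxX)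
  · rw [hN]
    apply sup_le
    · intro d hd
      have hcomm : ∀ a ∈ X, d * a * d⁻¹ = a := by
        intro a ha
        have := h.centralizer_comm hR hu hinv d hd a (hX ha)
        rw [this, mul_assoc, mul_inv_cancel, mul_one]
      rw [mem_normalizer_iff]
      intro a
      constructor
      · intro ha; rw [hcomm a ha]; exact ha
      · intro ha
        have h5 : d * (d * a * d⁻¹) * d⁻¹ = d * a * d⁻¹ := hcomm _ ha
        have e2 : d * a * d⁻¹ = a := by
          calc d * a * d⁻¹ = d⁻¹ * (d * (d * a * d⁻¹) * d⁻¹) * d := by group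
            _ = d⁻¹ * (d * a * d⁻¹) * d := by rw [h5]
            _ = a := by group
        rw [e2] at ha; exact ha
    · rw [zpowers_le, mem_normalizer_iff]
      intro a
      constructor
      · intro ha
        rw [h.inverts_centralizer hR hu hinv a (hX ha)]
        exact inv_mem ha
      · intro ha
        have h5 := h.inverts_centralizer hR hu hinv _ (hX ha)
        have e2 : u * (u * a * u⁻¹) * u⁻¹ = a := by
          rw [hui]
          calc u * (u * a * u) * u = (u * u) * a * (u * u) := by group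
            _ = a := by rw [huu, one_mul, mul_one]
        rw [e2] at h5
        rw [h5]; exact inv_mem ha

end Cfsg.Agent.Lib.Helper5.BSW
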