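import Mathlib
import Cfsg.Agent.Lib.Helper5.BSW.Minus1

/-!
# Brauer–Suzuki–Wall, abstract form (towards S3282): the case `δ = -1`, part 2

(author: helper5)  The set `U` of elements in no conjugate of `K` which are not products of two involutions:
`C(g)^# ⊆ U` for `g ∈ U`, `g` is not conjugate to `g⁻¹`, `|C(g)| = q`, and `U` consists of the two classes of `g`
and `g⁻¹`.
-/

set_option autoImplicit false
set_option linter.unusedVariables false
set_option linter.unusedSectionVars false
set_option linter.style.haveILetI false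
set_option linter.unusedSimpArgs false

namespace Cfsg.Agent.Lib.Helper5.BSW

open Subgroup Cfsg.Agent.Lib.Lead.BSW

variable {G : Type*} [Group G] {t s : G} {K : Subgroup G}

theorem beta_inv (g : G) : Lead.BSW.beta g⁻¹ = Lead.BSW.beta g := by
  unfold Lead.BSW.beta
  apply Nat.card_congr
  refine
    { toFun := fun p => ⟨(p.1.2, p.1.1), p.2.2.1, p.2.1, ?_⟩
      invFun := fun p => ⟨(p.1.2, p.1.1), p.2.2.1, p.2.1, ?_⟩
      left_inv := fun p => rfl
      right_inv := fun p => rfl }
  · have h1 := inv_eq_self_of_orderOf_two p.2.1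
    have h2 := inv_eq_self_of_orderOf_two p.2.2.1
    have h3 := p.2.2.2
    show p.1.2 * p.1.1 = g
    calc p.1.2 * p.1.1 = (p.1.1 * p.1.2)⁻¹ := by rw [mul_inv_rev, h1, h2]
      _ = (g⁻¹)⁻¹ := by rw [h3]
      _ = g := inv_inv g
  · have h1 := inv_eq_self_of_orderOf_two p.2.1
    have h2 := inv_eq_self_of_orderOf_two p.2.2.1
    have h3 := p.2.2.2
    show p.1.2 * p.1.1 = g⁻¹
    calc p.1.2 * p.1.1 = (p.1.1 * p.1.2)⁻¹ := by rw [mul_inv_rev, h1, h2]
      _ = g⁻¹ := by rw [h3]

theorem InU.inv {g : G} (hg : InU K g) : InU K g⁻¹ :=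
  ⟨hg.1.inv, by rw [beta_inv]; exact hg.2⟩

/-- non-identity elements of `C(g)`, `g ∈ U`, lie in `U` -/
theorem inU_of_mem_centralizer [Finite G] (h : Hyp t s K) {g a : G} (hg : InU K g)
    (ha : a ∈ centralizer ({g} : Set G)) (ha1 : a ≠ 1) : InU K a := by
  have hRa := h.inR_of_mem_centralizer hg.1 ha ha1
  refine ⟨hRa, ?_⟩
  by_contra hb
  obtain ⟨u, hu, hinv⟩ := exists_invol_of_beta_ne_zero hb
  have hga : g ∈ centralizer ({a} : Set G) := by
    rw [mem_centralizer_singleton] at ha ⊢; exact ha.symm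
  have hginv := h.inverts_centralizer hRa hu hinv g hga
  have := h.beta_eq_card_centralizer hg.1 hu hginv
  have hpos : 0 < Nat.card (centralizer ({g} : Set G)) := Nat.card_pos
  rw [hg.2] at this; omega

/-- elements of `U` are not real -/
theorem not_real_of_inU [Finite G] (h : Hyp t s K) {g w : G} (hg : InU K g)
    (hw : w * g * w⁻¹ = g⁻¹) : False := by
  have hR := hg.1
  have hg1 : g ≠ 1 := hR.ne_one
  have hgg : g ≠ g⁻¹ := by
    intro e
    have : g * g = 1 := by
      nth_rewrite 2 [e]; exact mul_inv_cancel g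
    exact h.not_inR_of_orderOf_two (orderOf_two_of hg1 this) hR
  have e1 : w * g = g⁻¹ * w := by
    calc w * g = (w * g * w⁻¹) * w := by group
      _ = g⁻¹ * w := by rw [hw]
  have e2 : w * g⁻¹ = g * w := by
    have : w * g⁻¹ * w⁻¹ = g := by
      have e' : (w * g * w⁻¹)⁻¹ = w * g⁻¹ * w⁻¹ := by group
      rw [← e', hw, inv_inv]
    calc w * g⁻¹ = (w * g⁻¹ * w⁻¹) * w := by group
      _ = g * w := by rw [this]
  have hc2 : Commute (w * w) g := by
    show w * w * g = g * (w * w)
    calc w * w * g = w * (w * g) := by group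
      _ = w * (g⁻¹ * w) := by rw [e1]
      _ = (w * g⁻¹) * w := by group
      _ = g * w * w := by rw [e2]
      _ = g * (w * w) := by group
  have hci : ∀ i : ℕ, Commute ((w * w) ^ i) g := fun i => hc2.pow_left i
  have hconj : ∀ j : ℕ, ((w * w) ^ j * w) * g * ((w * w) ^ j * w)⁻¹ = g⁻¹ := by
    intro j
    have hc' : Commute ((w * w) ^ j) g⁻¹ := (hci j).inv_right
    calc (w * w) ^ j * w * g * ((w * w) ^ j * w)⁻¹
        = (w * w) ^ j * (w * g * w⁻¹) * ((w * w) ^ j)⁻¹ := by group
      _ = (w * w) ^ j * g⁻¹ * ((w * w) ^ j)⁻¹ := by rw [hw]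
      _ = g⁻¹ := by rw [hc'.eq, mul_assoc, mul_inv_cancel, mul_one]
  have hnpos : 0 < orderOf w := orderOf_pos w
  rcases Nat.even_or_odd (orderOf w) with ⟨m, hm⟩ | ⟨m, hm⟩
  · have hm0 : 0 < m := by omega
    have hv1 : w ^ m ≠ 1 := pow_ne_one_of_lt_orderOf (by omega) (by omega)
    have hvv : w ^ m * w ^ m = 1 := by rw [← pow_add, ← hm, pow_orderOf_eq_one]
    have hvo : orderOf (w ^ m) = 2 := orderOf_two_of hv1 hvv
    rcases Nat.even_or_odd m with ⟨j, hj⟩ | ⟨j, hj⟩
    · have e : w ^ m = (w * w) ^ j := by rw [hj, ← pow_two, ← pow_mul, two_mul]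
      have hc := hci j
      rw [← e] at hc
      exact h.not_commute_invol hR hvo hc.eq
    · have e : w ^ m = (w * w) ^ j * w := by rw [hj, pow_succ, ← pow_two, ← pow_mul]
      have hvinv : w ^ m * g * (w ^ m)⁻¹ = g⁻¹ := by rw [e]; exact hconj j
      have := h.beta_eq_card_centralizer hR hvo hvinv
      have hpos : 0 < Nat.card (centralizer ({g} : Set G)) := Nat.card_pos
      rw [hg.2] at this; omega
  · have e : (1 : G) = (w * w) ^ m * w := by
      have := pow_orderOf_eq_one w
      rw [hm, pow_succ, pow_mul, pow_two] at this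
      exact this.symm
    apply hgg
    calc g = 1 * g * 1⁻¹ := by group
      _ = ((w * w) ^ m * w) * g * ((w * w) ^ m * w)⁻¹ := by rw [← e]
      _ = g⁻¹ := hconj m

/-- two conjugates of `a` by coset representatives of `C(a)` agree only for equal cosets -/
theorem coset_eq_of_conj_eq {a : G} {c c' : G ⧸ centralizer ({a} : Set G)}
    (hcc : (Quotient.out c : G) * a * (Quotient.out c : G)⁻¹
      = (Quotient.out c' : G) * a * (Quotient.out c' : G)⁻¹) : c = c' := by
  set x := (Quotient.out c : G) with hx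
  set x' := (Quotient.out c' : G) with hx'
  have hz : x'⁻¹ * x ∈ centralizer ({a} : Set G) := by
    rw [mem_centralizer_singleton]
    have : x'⁻¹ * x * a = x'⁻¹ * (x * a * x⁻¹) * x := by group
    rw [this, hcc]; group
  have e1 : c' = QuotientGroup.mk x' := (Quotient.out_eq' c').symm
  have e2 : c = QuotientGroup.mk x := (Quotient.out_eq' c).symm
  rw [e1, e2]
  exact (QuotientGroup.eq.2 hz).symm

theorem centralizer_inv_eq (g : G) :
    centralizer ({g⁻¹} : Set G) = centralizer ({g} : Set G) := by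
  ext a
  rw [mem_centralizer_singleton, mem_centralizer_singleton]
  constructor
  · intro ha
    have : a * g = g * (g⁻¹ * a) * g := by group
    rw [this, ← ha]; group
  · intro ha
    have : a * g⁻¹ = g⁻¹ * (g * a) * g⁻¹ := by group
    rw [this, ← ha]; group

/-- the map from two copies of `G ⧸ C(g)` onto the classes of `g` and `g⁻¹` -/
noncomputable def classMap [Finite G] (h : Hyp t s K) {g : G} (hg : InU K g) :
    (G ⧸ centralizer ({g} : Set G)) ⊕ (G ⧸ centralizer ({g} : Set G)) → {x : G // InU K x} :=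
  fun c => Sum.elim
    (fun c => ⟨(Quotient.out c : G) * g * (Quotient.out c : G)⁻¹, InU.conj hg _⟩)
    (fun c => ⟨(Quotient.out c : G) * g⁻¹ * (Quotient.out c : G)⁻¹, InU.conj (InU.inv hg) _⟩) c

theorem classMap_injective [Finite G] (h : Hyp t s K) {g : G} (hg : InU K g) :
    Function.Injective (classMap h hg) := by
  rintro (c | c) (c' | c') hcc
  · have := coset_eq_of_conj_eq (congrArg Subtype.val hcc)
    rw [this]
  · exfalso
    have e : (Quotient.out c : G) * g * (Quotient.out c : G)⁻¹
        = (Quotient.out c' : G) * g⁻¹ * (Quotient.out c' : G)⁻¹ := congrArg Subtype.val hcc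
    set x := (Quotient.out c : G)
    set x' := (Quotient.out c' : G)
    apply not_real_of_inU h hg (w := x'⁻¹ * x)
    have : x'⁻¹ * x * g * (x'⁻¹ * x)⁻¹ = x'⁻¹ * (x * g * x⁻¹) * x' := by group
    rw [this, e]; group
  · exfalso
    have e : (Quotient.out c : G) * g⁻¹ * (Quotient.out c : G)⁻¹
        = (Quotient.out c' : G) * g * (Quotient.out c' : G)⁻¹ := congrArg Subtype.val hcc
    set x := (Quotient.out c : G)
    set x' := (Quotient.out c' : G)
    apply not_real_of_inU h hg (w := x⁻¹ * x')
    have : x⁻¹ * x' * g * (x⁻¹ * x')⁻¹ = x⁻¹ * (x' * g * x'⁻¹) * x := by group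
    rw [this, ← e]; group
  · have e : (Quotient.out c : G) * g⁻¹ * (Quotient.out c : G)⁻¹
        = (Quotient.out c' : G) * g⁻¹ * (Quotient.out c' : G)⁻¹ := congrArg Subtype.val hcc
    set x := (Quotient.out c : G) with hx
    set x' := (Quotient.out c' : G) with hx'
    have hz : x'⁻¹ * x ∈ centralizer ({g} : Set G) := by
      rw [← centralizer_inv_eq, mem_centralizer_singleton]
      have : x'⁻¹ * x * g⁻¹ = x'⁻¹ * (x * g⁻¹ * x⁻¹) * x := by group
      rw [this, e]; group
    have e1 : c' = QuotientGroup.mk x' := (Quotient.out_eq' c').symm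
    have e2 : c = QuotientGroup.mk x := (Quotient.out_eq' c).symm
    have : c = c' := by
      rw [e1, e2]
      exact (QuotientGroup.eq.2 hz).symm
    rw [this]

/-- `2 |G : C(g)| ≤ |U|` -/
theorem two_mul_index_le [Finite G] (h : Hyp t s K) {g : G} (hg : InU K g) :
    2 * (centralizer ({g} : Set G)).index ≤ Nat.card {x : G // InU K x} := by
  have := Nat.card_le_card_of_injective _ (classMap_injective h hg)
  rw [Nat.card_sum, ← Subgroup.index_eq_card] at this
  omega

/-- an element of prime order `p` is conjugate into any subgroup of index prime to `p` -/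
theorem exists_conj_mem_of_not_dvd_index [Finite G] (B : Subgroup G) {p : ℕ} [Fact p.Prime]
    (hp : ¬ p ∣ B.index) {y : G} (hy : orderOf y = p) : ∃ w : G, w⁻¹ * y * w ∈ B := by
  have hY : IsPGroup p (zpowers y) :=
    IsPGroup.of_card (n := 1) (by rw [Nat.card_zpowers, hy, pow_one])
  obtain ⟨c, hc⟩ := hY.nonempty_fixed_point_of_prime_not_dvd_card (G ⧸ B)
    (by rw [← Subgroup.index_eq_card]; exact hp)
  induction c using QuotientGroup.induction_on with
  | H w =>
    have h1 := hc ⟨y, mem_zpowers y⟩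
    have e : ((y * w : G) : G ⧸ B) = (w : G ⧸ B) := h1
    refine ⟨w, ?_⟩
    have := QuotientGroup.eq.1 e.symm
    rwa [← mul_assoc] at this

end Cfsg.Agent.Lib.Helper5.BSW
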