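import Mathlib
import Cfsg.Agent.Lib.Helper5.BSW.Minus2

/-!
# Brauer–Suzuki–Wall, abstract form (towards S3282): the case `δ = -1`, part 3

(author: helper5)  For `g ∈ U` (`δ = -1`, `|K| ≥ 4`): `|C(g)|` divides `q`, hence `|C(g)| = q`, and every element of
`U` is conjugate to `g` or to `g⁻¹`.
-/

set_option autoImplicit false
set_option linter.unusedVariables false
set_option linter.unusedSectionVars false
set_option linter.style.haveILetI false
set_option linter.unusedSimpArgs false

namespace Cfsg.Agent.Lib.Helper5.BSW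

open Subgroup Cfsg.Agent.Lib.Lead.BSW

variable {G : Type*} [Group G] {t s : G} {K : Subgroup G}

/-- `|C(g)|` is odd for `g` in no conjugate of `K` -/
theorem not_two_dvd_card_centralizer [Finite G] (h : Hyp t s K) {g : G} (hR : InR K g) :
    ¬ 2 ∣ Nat.card (centralizer ({g} : Set G)) := by
  apply not_two_dvd_card_of_no_invol
  intro b hb hb2
  rw [mem_centralizer_singleton] at hb
  exact h.not_commute_invol hR hb2 hb

/-- `|G| = q k (q - 1)` -/
theorem minus_card_G [Finite G] (h : Hyp t s K) (q : ℕ) (hB : BB1 K q (-1)) :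
    q + 1 = 2 * Nat.card K ∧ Nat.card G = q * (Nat.card K * (q - 1)) := by
  obtain ⟨_, hq, hG, hbeta, hcount⟩ := hB
  have hk1 : 1 ≤ Nat.card K := Nat.card_pos
  have hq1 : q + 1 = 2 * Nat.card K := by omega
  refine ⟨hq1, ?_⟩
  have : 2 * Nat.card G = 2 * (q * (Nat.card K * (q - 1))) := by rw [hG, hq1]; ring
  omega

theorem card_centralizer_dvd [Finite G] (h : Hyp t s K) (hk : 4 ≤ Nat.card K) (q : ℕ)
    (hB : BB1 K q (-1)) {g : G} (hg : InU K g) : Nat.card (centralizer ({g} : Set G)) ∣ q := by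
  obtain ⟨g₀, hR₀, hb₀⟩ := exists_strongly_real h hk q hB
  obtain ⟨u₀, hu₀, hinv₀⟩ := exists_invol_of_beta_ne_zero hb₀
  have hD₀ := minus_card_D h q hB hR₀ hu₀ hinv₀
  obtain ⟨hq1, hGq⟩ := minus_card_G h q hB
  have hKidx := K.card_mul_index
  have hDidx := (centralizer ({g₀} : Set G)).card_mul_index
  have hcG : Nat.card (centralizer ({g} : Set G)) ∣ Nat.card G := Subgroup.card_subgroup_dvd_card _
  have hodd := not_two_dvd_card_centralizer h hg.1
  generalize Nat.card K = k at *
  have hq2 : q - 1 = 2 * (k - 1) := by omega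
  rw [hGq] at hcG
  apply (Nat.Coprime.dvd_mul_right ?_).1 hcG
  apply Nat.coprime_of_dvd
  intro p hp hpc hpm
  haveI : Fact p.Prime := ⟨hp⟩
  have hp2 : p ≠ 2 := by
    rintro rfl; exact hodd hpc
  have hp1 : ¬ p ∣ 1 := fun h1 => hp.one_lt.ne' (Nat.dvd_one.1 h1)
  have hpn2 : ¬ p ∣ 2 := fun h2 => hp2 ((Nat.prime_dvd_prime_iff_eq hp Nat.prime_two).1 h2)
  obtain ⟨y, hy⟩ := exists_prime_orderOf_dvd_card' p hpc
  have hyo : orderOf (y : G) = p := by
    rw [← hy]; exact Subgroup.orderOf_coe y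
  have hy1 : (y : G) ≠ 1 := by
    intro e
    rw [e, orderOf_one] at hyo
    exact hp.one_lt.ne hyo
  have hyU := inU_of_mem_centralizer h hg y.2 hy1
  rcases (Nat.Prime.dvd_mul hp).1 hpm with hpk | hpq1
  · -- p ∣ k
    have hidx : K.index = q * (q - 1) := by
      rw [hGq] at hKidx
      have : k * K.index = k * (q * (q - 1)) := by rw [hKidx]; ring
      exact Nat.eq_of_mul_eq_mul_left (by omega) this
    have hnd : ¬ p ∣ K.index := by
      rw [hidx]
      intro hd
      rcases (Nat.Prime.dvd_mul hp).1 hd with h1 | h1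
      · have h2 : p ∣ 2 * k := dvd_mul_of_dvd_right hpk 2
        have h3 := Nat.dvd_sub h2 h1
        have : 2 * k - q = 1 := by omega
        rw [this] at h3
        exact hp1 h3
      · rw [hq2] at h1
        rcases (Nat.Prime.dvd_mul hp).1 h1 with h2 | h2
        · exact hpn2 h2
        · have h3 := Nat.dvd_sub hpk h2
          have : k - (k - 1) = 1 := by omega
          rw [this] at h3
          exact hp1 h3
    obtain ⟨w, hw⟩ := exists_conj_mem_of_not_dvd_index K hnd hyo
    exact hyU.1 w hw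
  · rw [hq2] at hpq1
    have hpk1 : p ∣ k - 1 := by
      rcases (Nat.Prime.dvd_mul hp).1 hpq1 with h2 | h2
      · exact absurd h2 hpn2
      · exact h2
    have hcD : Nat.card (centralizer ({g₀} : Set G)) = k - 1 := by omega
    have hidx : (centralizer ({g₀} : Set G)).index = 2 * q * k := by
      rw [hGq, hcD, hq2] at hDidx
      have : (k - 1) * (centralizer ({g₀} : Set G)).index = (k - 1) * (2 * q * k) := by
        rw [hDidx]; ring
      exact Nat.eq_of_mul_eq_mul_left (by omega) this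
    have hnd : ¬ p ∣ (centralizer ({g₀} : Set G)).index := by
      rw [hidx]
      intro hd
      rcases (Nat.Prime.dvd_mul hp).1 hd with h1 | h1
      · rcases (Nat.Prime.dvd_mul hp).1 h1 with h2 | h2
        · exact hpn2 h2
        · have h3 := Nat.dvd_sub h2 (dvd_mul_of_dvd_right hpk1 2)
          have : q - 2 * (k - 1) = 1 := by omega
          rw [this] at h3
          exact hp1 h3
      · have h3 := Nat.dvd_sub h1 hpk1
        have : k - (k - 1) = 1 := by omega
        rw [this] at h3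
        exact hp1 h3
    obtain ⟨w, hw⟩ := exists_conj_mem_of_not_dvd_index _ hnd hyo
    have hw1 : w⁻¹ * (y : G) * w ≠ 1 := by
      intro e
      apply hy1
      have : (y : G) = w * (w⁻¹ * (y : G) * w) * w⁻¹ := by group
      rw [this, e]; group
    have hb := beta_of_mem_centralizer h hR₀ hu₀ hinv₀ hw hw1
    have hbc := beta_conj w⁻¹ (y : G)
    rw [inv_inv] at hbc
    rw [hbc, hyU.2] at hb
    omega

/-- `|C(g)| = q` for `g ∈ U` -/
theorem minus_card_centralizer [Finite G] (h : Hyp t s K) (hk : 4 ≤ Nat.card K) (q : ℕ)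
    (hB : BB1 K q (-1)) {g : G} (hg : InU K g) : Nat.card (centralizer ({g} : Set G)) = q := by
  have hdvd := card_centralizer_dvd h hk q hB hg
  have hle := two_mul_index_le h hg
  have hmul := (centralizer ({g} : Set G)).card_mul_index
  obtain ⟨hq1, hGq⟩ := minus_card_G h q hB
  obtain ⟨_, hq, hG, hbeta, hcount⟩ := hB
  have e : {x : G // InU K x} ≃ {g : G // InR K g ∧ (((-1 : ℤ) = 1 ∧ Lead.BSW.beta g = q) ∨
      ((-1 : ℤ) = -1 ∧ Lead.BSW.beta g = 0))} :=
    { toFun := fun g => ⟨g.1, g.2.1, Or.inr ⟨rfl, g.2.2⟩⟩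
      invFun := fun g => ⟨g.1, g.2.1, by
        rcases g.2.2 with ⟨h1, _⟩ | ⟨_, h2⟩
        · norm_num at h1
        · exact h2⟩
      left_inv := fun g => rfl
      right_inv := fun g => rfl }
  rw [Nat.card_congr e, hcount] at hle
  have hq7 : 7 ≤ q := by omega
  have hqpos : 0 < q := by omega
  have hcle : Nat.card (centralizer ({g} : Set G)) ≤ q := Nat.le_of_dvd hqpos hdvd
  apply le_antisymm hcle
  -- q (q^2 - 1) = 2 |G| = 2 idx c ≤ (q^2 - 1) c
  have hsq : q * (q + 1) * (q - 1) = q * (q ^ 2 - 1) := by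
    obtain ⟨m, rfl⟩ : ∃ m, q = m + 1 := ⟨q - 1, by omega⟩
    have : (m + 1) ^ 2 - 1 = (m + 1 + 1) * m := by
      have : (m + 1) ^ 2 = (m + 1 + 1) * m + 1 := by ring
      omega
    rw [this]
    simp only [Nat.add_sub_cancel]
    ring
  have h1 : q * (q ^ 2 - 1) ≤ Nat.card (centralizer ({g} : Set G)) * (q ^ 2 - 1) := by
    calc q * (q ^ 2 - 1) = 2 * Nat.card G := by rw [hG, hsq]
      _ = Nat.card (centralizer ({g} : Set G)) * (2 * (centralizer ({g} : Set G)).index) := by
        rw [← hmul]; ring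
      _ ≤ Nat.card (centralizer ({g} : Set G)) * (q ^ 2 - 1) := Nat.mul_le_mul_left _ hle
  have hpos : 0 < q ^ 2 - 1 := by
    have : 49 ≤ q ^ 2 := by nlinarith
    omega
  exact Nat.le_of_mul_le_mul_right h1 hpos

/-- every element of `U` is conjugate to `g` or to `g⁻¹` -/
theorem minus_two_classes [Finite G] (h : Hyp t s K) (hk : 4 ≤ Nat.card K) (q : ℕ)
    (hB : BB1 K q (-1)) {g g' : G} (hg : InU K g) (hg' : InU K g') :
    ∃ x : G, x * g * x⁻¹ = g' ∨ x * g⁻¹ * x⁻¹ = g' := by
  have hc := minus_card_centralizer h hk q hB hg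
  have hmul := (centralizer ({g} : Set G)).card_mul_index
  obtain ⟨hq1, hGq⟩ := minus_card_G h q hB
  have hB' := hB
  obtain ⟨_, hq, hG, hbeta, hcount⟩ := hB'
  have e : {x : G // InU K x} ≃ {g : G // InR K g ∧ (((-1 : ℤ) = 1 ∧ Lead.BSW.beta g = q) ∨
      ((-1 : ℤ) = -1 ∧ Lead.BSW.beta g = 0))} :=
    { toFun := fun g => ⟨g.1, g.2.1, Or.inr ⟨rfl, g.2.2⟩⟩
      invFun := fun g => ⟨g.1, g.2.1, by
        rcases g.2.2 with ⟨h1, _⟩ | ⟨_, h2⟩
        · norm_num at h1
        · exact h2⟩
      left_inv := fun g => rfl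
      right_inv := fun g => rfl }
  have hU : Nat.card {x : G // InU K x} = q ^ 2 - 1 := by rw [Nat.card_congr e, hcount]
  have hq7 : 7 ≤ q := by omega
  have hidx : 2 * (centralizer ({g} : Set G)).index = q ^ 2 - 1 := by
    rw [hc] at hmul
    have hsq : q * (q + 1) * (q - 1) = q * (q ^ 2 - 1) := by
      obtain ⟨m, rfl⟩ : ∃ m, q = m + 1 := ⟨q - 1, by omega⟩
      have : (m + 1) ^ 2 - 1 = (m + 1 + 1) * m := by
        have : (m + 1) ^ 2 = (m + 1 + 1) * m + 1 := by ring
        omega
      rw [this]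
      simp only [Nat.add_sub_cancel]
      ring
    have : q * (2 * (centralizer ({g} : Set G)).index) = q * (q ^ 2 - 1) := by
      calc q * (2 * (centralizer ({g} : Set G)).index)
          = 2 * (q * (centralizer ({g} : Set G)).index) := by ring
        _ = 2 * Nat.card G := by rw [hmul]
        _ = q * (q ^ 2 - 1) := by rw [hG, hsq]
    exact Nat.eq_of_mul_eq_mul_left (by omega) this
  have hbij := (classMap_injective h hg).bijective_of_nat_card_le (by
    rw [Nat.card_sum, ← Subgroup.index_eq_card, hU]; omega)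
  obtain ⟨c, hc⟩ := hbij.2 ⟨g', hg'⟩
  rcases c with c | c
  · exact ⟨Quotient.out c, Or.inl (congrArg Subtype.val hc)⟩
  · exact ⟨Quotient.out c, Or.inr (congrArg Subtype.val hc)⟩

end Cfsg.Agent.Lib.Helper5.BSW
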