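import Mathlib
import Cfsg.Prelude.Def_Characters
import Cfsg.Agent.Lib.Helper5.BSW.Minus3
import Cfsg.Agent.Lib.helper3.ClassMul
import Cfsg.Agent.Lib.helper3.Irr13

/-!
# Brauer–Suzuki–Wall, abstract form (towards S3282): `BB3`, part a (counting via the class algebra)

(author: helper5; proof plan by lead)  For `g ∈ U` (`δ = -1`): the number `N` of factorisations of `g` inside `U`
satisfies `4 q N = (q² - 1) Σ_χ s_χ³ / χ(1)` with `s_χ = χ(g) + conj χ(g)`; and the two column sums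
`Σ_χ χ(1) s_χ = 0`, `Σ_χ s_χ² = 2 q`.
-/

set_option autoImplicit false
set_option linter.unusedVariables false
set_option linter.unusedSectionVars false
set_option linter.style.haveILetI false
set_option linter.unusedSimpArgs false
set_option maxHeartbeats 1000000

namespace Cfsg.Agent.Lib.Helper5.BSW

open Subgroup Cfsg Cfsg.Agent.Lib.Lead.BSW Cfsg.Agent.Lib.helper3.Irr
open Cfsg.Agent.Lib.helper3.Central
open scoped ComplexConjugate
open Classical

variable {G : Type*} [Group G] [Fintype G] {t s : G} {K : Subgroup G}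

/-- `|cl(a)| · |C(a)| = |G|` -/
theorem card_cls_mul (a : G) :
    (cls a).card * Nat.card (centralizer ({a} : Set G)) = Nat.card G := by
  have h1 : (cls a).card = (centralizer ({a} : Set G)).index := by
    rw [Subgroup.index_eq_card, Nat.card_eq_fintype_card, ← Fintype.card_coe]
    symm
    apply Fintype.card_congr
    refine Equiv.ofBijective
      (fun c => ⟨(Quotient.out c : G) * a * (Quotient.out c : G)⁻¹,
        mem_cls.2 (isConj_iff.2 ⟨_, rfl⟩)⟩) ⟨?_, ?_⟩
    · intro c c' hcc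
      exact coset_eq_of_conj_eq (congrArg Subtype.val hcc)
    · rintro ⟨x, hx⟩
      obtain ⟨w, hw⟩ := isConj_iff.1 (mem_cls.1 hx)
      set c : G ⧸ centralizer ({a} : Set G) := QuotientGroup.mk w with hc
      have hout : w⁻¹ * (Quotient.out c : G) ∈ centralizer ({a} : Set G) := by
        have : (QuotientGroup.mk (Quotient.out c : G) : G ⧸ centralizer ({a} : Set G))
            = QuotientGroup.mk w := Quotient.out_eq' c
        exact QuotientGroup.eq.1 this.symm
      rw [mem_centralizer_singleton] at hout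
      refine ⟨c, ?_⟩
      apply Subtype.ext
      show (Quotient.out c : G) * a * (Quotient.out c : G)⁻¹ = x
      rw [← hw]
      have e : (Quotient.out c : G) = w * (w⁻¹ * (Quotient.out c : G)) := by group
      rw [e]
      calc w * (w⁻¹ * (Quotient.out c : G)) * a * (w * (w⁻¹ * (Quotient.out c : G)))⁻¹
          = w * ((w⁻¹ * (Quotient.out c : G)) * a) * (w⁻¹ * (Quotient.out c : G))⁻¹ * w⁻¹ := by
            group
        _ = w * (a * (w⁻¹ * (Quotient.out c : G))) * (w⁻¹ * (Quotient.out c : G))⁻¹ * w⁻¹ := by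
            rw [hout]
        _ = w * a * w⁻¹ := by group
  rw [h1, mul_comm]
  exact Subgroup.card_mul_index _

/-- the number of pairs in `S × T` with given product -/
theorem card_pairs_eq_sum (S T : Finset G) (c : G) :
    (Nat.card {p : G × G // p.1 ∈ S ∧ p.2 ∈ T ∧ p.1 * p.2 = c} : ℂ)
      = ∑ x ∈ S, ∑ y ∈ T, if x * y = c then (1 : ℂ) else 0 := by
  rw [Nat.card_eq_fintype_card, Fintype.card_subtype, Finset.card_filter]
  push_cast
  rw [Fintype.sum_prod_type]
  rw [← Finset.sum_filter_add_sum_filter_not Finset.univ (fun x => x ∈ S)]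
  have h0 : ∑ x ∈ Finset.univ.filter (fun x => ¬ x ∈ S),
      ∑ y : G, (if (x, y).1 ∈ S ∧ (x, y).2 ∈ T ∧ (x, y).1 * (x, y).2 = c then (1 : ℂ) else 0) = 0 := by
    apply Finset.sum_eq_zero
    intro x hx
    rw [Finset.mem_filter] at hx
    apply Finset.sum_eq_zero
    intro y _
    simp only [hx.2, false_and, if_false]
  rw [h0, add_zero]
  have hS : Finset.univ.filter (fun x => x ∈ S) = S := by
    ext x; simp
  rw [hS]
  apply Finset.sum_congr rfl
  intro x hx
  rw [← Finset.sum_filter_add_sum_filter_not Finset.univ (fun y => y ∈ T)]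
  have h1 : ∑ y ∈ Finset.univ.filter (fun y => ¬ y ∈ T),
      (if (x, y).1 ∈ S ∧ (x, y).2 ∈ T ∧ (x, y).1 * (x, y).2 = c then (1 : ℂ) else 0) = 0 := by
    apply Finset.sum_eq_zero
    intro y hy
    rw [Finset.mem_filter] at hy
    simp only [hy.2, false_and, and_false, if_false]
  rw [h1, add_zero]
  have hT : Finset.univ.filter (fun y => y ∈ T) = T := by
    ext y; simp
  rw [hT]
  apply Finset.sum_congr rfl
  intro y hy
  simp only [hx, hy, true_and]

section main

variable (h : Hyp t s K) (hk : 4 ≤ Nat.card K) (q : ℕ) (hB : BB1 K q (-1)) {g : G}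
  (hg : InU K g)

include h hk hB hg

theorem not_isConj_inv : ¬ IsConj g g⁻¹ := by
  intro hc
  obtain ⟨w, hw⟩ := isConj_iff.1 hc
  exact not_real_of_inU h hg hw

theorem inU_iff_isConj (x : G) : InU K x ↔ IsConj g x ∨ IsConj g⁻¹ x := by
  constructor
  · intro hx
    obtain ⟨w, hw | hw⟩ := minus_two_classes h hk q hB hg hx
    · exact Or.inl (isConj_iff.2 ⟨w, hw⟩)
    · exact Or.inr (isConj_iff.2 ⟨w, hw⟩)
  · rintro (hc | hc)
    · obtain ⟨w, hw⟩ := isConj_iff.1 hc
      rw [← hw]; exact InU.conj hg w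
    · obtain ⟨w, hw⟩ := isConj_iff.1 hc
      rw [← hw]; exact InU.conj (InU.inv hg) w

theorem disjoint_cls : Disjoint (cls g) (cls g⁻¹) := by
  rw [Finset.disjoint_left]
  intro x h1 h2
  rw [mem_cls] at h1 h2
  exact not_isConj_inv h hk q hB hg (h1.trans h2.symm)

/-- `N` as a sum of four class multiplication coefficients -/
theorem bb3_count_aux :
    (Nat.card {p : G × G // InU K p.1 ∧ InU K p.2 ∧ p.1 * p.2 = g} : ℂ)
      = mulCount g g g + mulCount g g⁻¹ g + mulCount g⁻¹ g g + mulCount g⁻¹ g⁻¹ g := by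
  have hmem : ∀ x : G, InU K x ↔ x ∈ cls g ∪ cls g⁻¹ := by
    intro x
    rw [Finset.mem_union, mem_cls, mem_cls]
    exact inU_iff_isConj h hk q hB hg x
  have e : {p : G × G // InU K p.1 ∧ InU K p.2 ∧ p.1 * p.2 = g} ≃
      {p : G × G // p.1 ∈ cls g ∪ cls g⁻¹ ∧ p.2 ∈ cls g ∪ cls g⁻¹ ∧ p.1 * p.2 = g} :=
    Equiv.subtypeEquivRight (fun p => by rw [hmem, hmem])
  rw [Nat.card_congr e, card_pairs_eq_sum]
  have hd := disjoint_cls h hk q hB hg
  rw [Finset.sum_union hd]
  simp only [Finset.sum_union hd, Finset.sum_add_distrib]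
  rw [mulCount_eq_sum, mulCount_eq_sum, mulCount_eq_sum, mulCount_eq_sum]
  ring

theorem card_cls_eq : ((cls g).card : ℂ) * (q : ℂ) = (Nat.card G : ℂ) ∧
    ((cls g⁻¹).card : ℂ) * (q : ℂ) = (Nat.card G : ℂ) := by
  have hc := minus_card_centralizer h hk q hB hg
  have h1 := card_cls_mul g
  have h2 := card_cls_mul g⁻¹
  rw [centralizer_inv_eq] at h2
  rw [hc] at h1 h2
  constructor
  · exact_mod_cast h1
  · exact_mod_cast h2

theorem bb3_count :
    (Nat.card {p : G × G // InU K p.1 ∧ InU K p.2 ∧ p.1 * p.2 = g} : ℂ) * (4 * (q : ℂ))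
      = ((q : ℂ) ^ 2 - 1) * ∑ χ : IrrCharacter G,
          ((χ : G → ℂ) g + conj ((χ : G → ℂ) g)) ^ 3 / (χ : G → ℂ) 1 := by
  have hinv : ∀ χ : IrrCharacter G, (χ : G → ℂ) g⁻¹ = conj ((χ : G → ℂ) g) :=
    fun χ => isCharacter_apply_inv (isCharacter_of_isIrrCharacter χ.2) g
  have hone : ∀ χ : IrrCharacter G, conj ((χ : G → ℂ) 1) = (χ : G → ℂ) 1 :=
    fun χ => conj_apply_one (isCharacter_of_isIrrCharacter χ.2)
  obtain ⟨hc1, hc2⟩ := card_cls_eq h hk q hB hg
  obtain ⟨hq1, hGq⟩ := minus_card_G h q hB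
  have hq7 : 7 ≤ q := by omega
  have hqne : (q : ℂ) ≠ 0 := by
    have : q ≠ 0 := by omega
    exact_mod_cast this
  have hGne : (Nat.card G : ℂ) ≠ 0 := by
    have : Nat.card G ≠ 0 := Nat.card_pos.ne'
    exact_mod_cast this
  -- 2 |G| = q (q^2 - 1)
  have hG2 : 2 * (Nat.card G : ℂ) = (q : ℂ) * ((q : ℂ) ^ 2 - 1) := by
    obtain ⟨_, _, hG, _, _⟩ := hB
    have h5 : ((q - 1 : ℕ) : ℂ) = (q : ℂ) - 1 := by
      rw [Nat.cast_sub (by omega)]; simp
    have h6 : ((2 * Nat.card G : ℕ) : ℂ) = ((q * (q + 1) * (q - 1) : ℕ) : ℂ) := by rw [hG]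
    push_cast at h6
    rw [h5] at h6
    rw [h6]; ring
  set N : ℂ := (Nat.card {p : G × G // InU K p.1 ∧ InU K p.2 ∧ p.1 * p.2 = g} : ℂ) with hN
  set c : ℂ := ((cls g).card : ℂ) with hc
  have hc' : ((cls g⁻¹).card : ℂ) = c := by
    have : ((cls g⁻¹).card : ℂ) * (q : ℂ) = c * (q : ℂ) := by rw [hc2, hc1]
    exact mul_right_cancel₀ hqne this
  -- N in terms of the characters
  have hNsum : N = c * c / (Nat.card G : ℂ) * ∑ χ : IrrCharacter G,
      ((χ : G → ℂ) g + conj ((χ : G → ℂ) g)) ^ 2 * conj ((χ : G → ℂ) g) / (χ : G → ℂ) 1 := by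
    rw [hN, bb3_count_aux h hk q hB hg, mulCount_eq, mulCount_eq, mulCount_eq, mulCount_eq, hc']
    rw [← mul_add, ← mul_add, ← mul_add, ← Finset.sum_add_distrib, ← Finset.sum_add_distrib,
      ← Finset.sum_add_distrib]
    congr 1
    apply Finset.sum_congr rfl
    intro χ _
    rw [hinv χ]
    ring
  -- N is real
  have hNreal : conj N = N := by
    rw [hN]; exact Complex.conj_natCast _
  have hcreal : conj c = c := by
    rw [hc]; exact Complex.conj_natCast _
  have hNsum' : N = c * c / (Nat.card G : ℂ) * ∑ χ : IrrCharacter G,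
      ((χ : G → ℂ) g + conj ((χ : G → ℂ) g)) ^ 2 * ((χ : G → ℂ) g) / (χ : G → ℂ) 1 := by
    have := congrArg conj hNsum
    rw [hNreal, map_mul, map_div₀, map_mul, hcreal, Complex.conj_natCast, map_sum] at this
    rw [this]
    congr 1
    apply Finset.sum_congr rfl
    intro χ _
    rw [map_div₀, map_mul, map_pow, map_add, Complex.conj_conj, hone χ]
    ring
  have h2N : 2 * N = c * c / (Nat.card G : ℂ) * ∑ χ : IrrCharacter G,
      ((χ : G → ℂ) g + conj ((χ : G → ℂ) g)) ^ 3 / (χ : G → ℂ) 1 := by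
    have : 2 * N = N + N := by ring
    rw [this]
    nth_rewrite 1 [hNsum]
    nth_rewrite 1 [hNsum']
    rw [← mul_add, ← Finset.sum_add_distrib]
    congr 1
    apply Finset.sum_congr rfl
    intro χ _
    ring
  have hcq : c = (Nat.card G : ℂ) / (q : ℂ) := by
    field_simp
    exact hc1
  have key : 2 * (q : ℂ) * (c * c / (Nat.card G : ℂ)) = (q : ℂ) ^ 2 - 1 := by
    rw [hcq]
    field_simp
    linear_combination hG2
  calc N * (4 * (q : ℂ)) = 2 * (q : ℂ) * (2 * N) := by ring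
    _ = 2 * (q : ℂ) * (c * c / (Nat.card G : ℂ)) * ∑ χ : IrrCharacter G,
          ((χ : G → ℂ) g + conj ((χ : G → ℂ) g)) ^ 3 / (χ : G → ℂ) 1 := by rw [h2N]; ring
    _ = _ := by rw [key]

theorem bb3_col1 :
    ∑ χ : IrrCharacter G, (χ : G → ℂ) 1 * ((χ : G → ℂ) g + conj ((χ : G → ℂ) g)) = 0 := by
  have hone : ∀ χ : IrrCharacter G, conj ((χ : G → ℂ) 1) = (χ : G → ℂ) 1 :=
    fun χ => conj_apply_one (isCharacter_of_isIrrCharacter χ.2)
  have hg1 : g ≠ 1 := hg.1.ne_one
  have hnc : ¬ IsConj g 1 := by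
    intro hc
    exact hg1 (isConj_one_left.1 hc)
  have h1 := (column_orthogonality g (1 : G)).2 hnc
  have h2 : ∑ χ : IrrCharacter G, (χ : G → ℂ) g * (χ : G → ℂ) 1 = 0 := by
    rw [← h1]
    apply Finset.sum_congr rfl
    intro χ _
    rw [hone χ]
  have h3 : ∑ χ : IrrCharacter G, conj ((χ : G → ℂ) g) * (χ : G → ℂ) 1 = 0 := by
    have := congrArg conj h2
    rw [map_sum, map_zero] at this
    rw [← this]
    apply Finset.sum_congr rfl
    intro χ _
    rw [map_mul, hone χ]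
  have : ∀ χ : IrrCharacter G, (χ : G → ℂ) 1 * ((χ : G → ℂ) g + conj ((χ : G → ℂ) g))
      = (χ : G → ℂ) g * (χ : G → ℂ) 1 + conj ((χ : G → ℂ) g) * (χ : G → ℂ) 1 := fun χ => by ring
  simp only [this, Finset.sum_add_distrib, h2, h3, add_zero]

theorem bb3_col2 :
    ∑ χ : IrrCharacter G, ((χ : G → ℂ) g + conj ((χ : G → ℂ) g)) ^ 2 = 2 * (q : ℂ) := by
  have hinv : ∀ χ : IrrCharacter G, (χ : G → ℂ) g⁻¹ = conj ((χ : G → ℂ) g) :=
    fun χ => isCharacter_apply_inv (isCharacter_of_isIrrCharacter χ.2) g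
  have hc := minus_card_centralizer h hk q hB hg
  have h1 := (column_orthogonality g g).1 (IsConj.refl g)
  rw [hc] at h1
  have h2 := (column_orthogonality g g⁻¹).2 (not_isConj_inv h hk q hB hg)
  have h2' : ∑ χ : IrrCharacter G, (χ : G → ℂ) g * (χ : G → ℂ) g = 0 := by
    rw [← h2]
    apply Finset.sum_congr rfl
    intro χ _
    rw [hinv χ, Complex.conj_conj]
  have h3 : ∑ χ : IrrCharacter G, conj ((χ : G → ℂ) g) * conj ((χ : G → ℂ) g) = 0 := by
    have := congrArg conj h2'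
    rw [map_sum, map_zero] at this
    rw [← this]
    apply Finset.sum_congr rfl
    intro χ _
    rw [map_mul]
  have : ∀ χ : IrrCharacter G, ((χ : G → ℂ) g + conj ((χ : G → ℂ) g)) ^ 2
      = (χ : G → ℂ) g * (χ : G → ℂ) g + 2 * ((χ : G → ℂ) g * conj ((χ : G → ℂ) g))
        + conj ((χ : G → ℂ) g) * conj ((χ : G → ℂ) g) := fun χ => by ring
  simp only [this, Finset.sum_add_distrib, ← Finset.mul_sum, h2', h3, h1]
  ring

end main

end Cfsg.Agent.Lib.Helper5.BSW
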