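import Mathlib

/-!
# Brauer–Suzuki–Wall, abstract form (towards S3282): `BB3`, the real-arithmetic step (P3)/(P4)

(author: helper5; proof plan by lead)  A finite family of pairs `(d_i, s_i)` of real numbers (given as
complex numbers fixed by conjugation) with `Σ d s = (q-3)(q+1)/2`, `Σ s² = q-3`, `Σ d² = (q+1)²(q-3)/4`
has `(q+1) s_i = 2 d_i` for every `i`, and then `Σ s³/d = 2(q-3)/(q+1)`.
-/

set_option autoImplicit false
set_option linter.unusedVariables false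
set_option linter.unusedSectionVars false
set_option linter.unusedSimpArgs false

namespace Cfsg.Agent.Lib.Helper5.BSW

open scoped ComplexConjugate

theorem ns_eq_of_sums {ι : Type*} (S : Finset ι) (d s : ι → ℂ) (q : ℕ)
    (hd : ∀ i ∈ S, conj (d i) = d i) (hs : ∀ i ∈ S, conj (s i) = s i)
    (h1 : ∑ i ∈ S, d i * s i = ((q : ℂ) - 3) * ((q : ℂ) + 1) / 2)
    (h2 : ∑ i ∈ S, s i ^ 2 = (q : ℂ) - 3)
    (h3 : ∑ i ∈ S, d i ^ 2 = ((q : ℂ) + 1) ^ 2 * ((q : ℂ) - 3) / 4) :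
    ∀ i ∈ S, ((q : ℂ) + 1) * s i = 2 * d i := by
  classical
  have hsum : ∑ i ∈ S, (((q : ℂ) + 1) * s i - 2 * d i) ^ 2 = 0 := by
    have : ∀ i, (((q : ℂ) + 1) * s i - 2 * d i) ^ 2
        = ((q : ℂ) + 1) ^ 2 * s i ^ 2 - 4 * ((q : ℂ) + 1) * (d i * s i) + 4 * d i ^ 2 :=
      fun i => by ring
    simp only [this, Finset.sum_add_distrib, Finset.sum_sub_distrib, ← Finset.mul_sum, h1, h2, h3]
    ring
  have hzre : ∀ i ∈ S, (((((q : ℂ) + 1) * s i - 2 * d i).re : ℝ) : ℂ)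
      = ((q : ℂ) + 1) * s i - 2 * d i := by
    intro i hi
    rw [← Complex.conj_eq_iff_re]
    simp only [map_sub, map_mul, map_add, map_natCast, map_one, map_ofNat, hd i hi, hs i hi]
  have hsumR : ∑ i ∈ S, ((((q : ℂ) + 1) * s i - 2 * d i).re) ^ 2 = 0 := by
    have : ((∑ i ∈ S, ((((q : ℂ) + 1) * s i - 2 * d i).re) ^ 2 : ℝ) : ℂ) = 0 := by
      rw [Complex.ofReal_sum, ← hsum]
      apply Finset.sum_congr rfl
      intro i hi
      rw [Complex.ofReal_pow, hzre i hi]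
    exact_mod_cast this
  intro i hi
  have h0 := (Finset.sum_eq_zero_iff_of_nonneg (fun i _ => sq_nonneg _)).1 hsumR i hi
  have hr : (((q : ℂ) + 1) * s i - 2 * d i).re = 0 := by
    exact pow_eq_zero_iff (two_ne_zero) |>.1 h0
  have hz : ((q : ℂ) + 1) * s i - 2 * d i = 0 := by
    rw [← hzre i hi, hr]; simp
  exact sub_eq_zero.1 hz

theorem ns_sum_cube {ι : Type*} (S : Finset ι) (d s : ι → ℂ) (q : ℕ)
    (hd : ∀ i ∈ S, conj (d i) = d i) (hd0 : ∀ i ∈ S, d i ≠ 0) (hs : ∀ i ∈ S, conj (s i) = s i)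
    (h1 : ∑ i ∈ S, d i * s i = ((q : ℂ) - 3) * ((q : ℂ) + 1) / 2)
    (h2 : ∑ i ∈ S, s i ^ 2 = (q : ℂ) - 3)
    (h3 : ∑ i ∈ S, d i ^ 2 = ((q : ℂ) + 1) ^ 2 * ((q : ℂ) - 3) / 4) :
    ∑ i ∈ S, s i ^ 3 / d i = 2 * ((q : ℂ) - 3) / ((q : ℂ) + 1) := by
  have hq1 : (q : ℂ) + 1 ≠ 0 := by exact_mod_cast Nat.succ_ne_zero q
  have key := ns_eq_of_sums S d s q hd hs h1 h2 h3
  have hterm : ∀ i ∈ S, s i ^ 3 / d i = 8 / ((q : ℂ) + 1) ^ 3 * d i ^ 2 := by
    intro i hi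
    have hsi : s i = 2 * d i / ((q : ℂ) + 1) := by
      rw [eq_div_iff hq1, mul_comm]; exact key i hi
    have hdi := hd0 i hi
    rw [hsi]; field_simp; norm_num
  rw [Finset.sum_congr rfl hterm, ← Finset.mul_sum, h3]
  field_simp; ring

end Cfsg.Agent.Lib.Helper5.BSW
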