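import Mathlib
import Cfsg.Agent.Lib.Helper5.BSW.Minus3

/-!
# Brauer–Suzuki–Wall, abstract form (towards S3282): the case `δ = -1`, part 4

(author: helper5)  `BB3` forces `C(g)` to be commutative for `g ∈ U`: otherwise there are three distinct subgroups
`C(x)`, `x ∈ U`, of order `q` through `g`, and they give at least `2 q` factorisations of `g` inside `U`.
-/

set_option autoImplicit false
set_option linter.unusedVariables false
set_option linter.unusedSectionVars false
set_option linter.style.haveILetI false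
set_option linter.unusedSimpArgs false

namespace Cfsg.Agent.Lib.Helper5.BSW

open Subgroup Cfsg.Agent.Lib.Lead.BSW

variable {G : Type*} [Group G] {t s : G} {K : Subgroup G}

/-- in a non-commutative subgroup `P` all of whose non-identity elements have centralisers of order
`|P|`, two non-central elements have different centralisers -/
theorem exists_two_centralizers [Finite G] (P : Subgroup G)
    (hcard : ∀ w ∈ P, w ≠ 1 → Nat.card (centralizer ({w} : Set G)) = Nat.card P)
    (hnc : ¬ ∀ a ∈ P, ∀ b ∈ P, a * b = b * a) :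
    ∃ w₁ ∈ P, ∃ w₂ ∈ P, w₁ ≠ 1 ∧ w₂ ≠ 1 ∧ centralizer ({w₁} : Set G) ≠ P ∧
      centralizer ({w₂} : Set G) ≠ P ∧ centralizer ({w₁} : Set G) ≠ centralizer ({w₂} : Set G) := by
  push Not at hnc
  obtain ⟨a, ha, b, hb, hab⟩ := hnc
  have ha1 : a ≠ 1 := by
    intro e; apply hab; rw [e, one_mul, mul_one]
  have hCa : centralizer ({a} : Set G) ≠ P := by
    intro e
    have : b ∈ centralizer ({a} : Set G) := by rw [e]; exact hb
    rw [mem_centralizer_singleton] at this
    exact hab this.symm
  by_contra hall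
  push Not at hall
  have hall' : ∀ w ∈ P, w ≠ 1 → centralizer ({w} : Set G) ≠ P →
      centralizer ({w} : Set G) = centralizer ({a} : Set G) := by
    intro w hw hw1 hCw
    exact (hall a ha w hw ha1 hw1 hCa hCw).symm
  have hle : P ≤ centralizer ({a} : Set G) := by
    intro x hx
    by_cases hx1 : x = 1
    · rw [hx1]; exact one_mem _
    by_cases hCx : centralizer ({x} : Set G) = P
    · -- x central in P: use x a
      have hxa : x * a ∈ P := mul_mem hx ha
      have hxa1 : x * a ≠ 1 := by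
        intro e
        apply hCa
        have : a = x⁻¹ := by
          have := eq_inv_of_mul_eq_one_right e
          exact this
        rw [this, centralizer_inv_eq, hCx]
      have hCxa : centralizer ({x * a} : Set G) ≠ P := by
        intro e
        have hb' : b ∈ centralizer ({x * a} : Set G) := by rw [e]; exact hb
        rw [mem_centralizer_singleton] at hb'
        have hbx : b ∈ centralizer ({x} : Set G) := by rw [hCx]; exact hb
        rw [mem_centralizer_singleton] at hbx
        apply hab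
        -- b x a = x a b, b x = x b
        have : x * (b * a) = x * (a * b) := by
          calc x * (b * a) = (x * b) * a := by group
            _ = (b * x) * a := by rw [hbx]
            _ = b * (x * a) := by group
            _ = x * a * b := hb'
            _ = x * (a * b) := by group
        exact (mul_left_cancel this).symm
      have := hall' _ hxa hxa1 hCxa
      have hm : x * a ∈ centralizer ({a} : Set G) := by
        rw [← this, mem_centralizer_singleton]
      have ham : a ∈ centralizer ({a} : Set G) := mem_centralizer_singleton.2 rfl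
      have := mul_mem hm (inv_mem ham)
      rwa [mul_assoc, mul_inv_cancel, mul_one] at this
    · have := hall' x hx hx1 hCx
      rw [← this, mem_centralizer_singleton]
  apply hCa
  symm
  apply Subgroup.eq_of_le_of_card_ge hle
  rw [hcard a ha ha1]

/-- `|B \ {1, g}| + 2 = |B|` -/
theorem card_filter_sub [Fintype G] [DecidableEq G] (B : Subgroup G) [DecidablePred (· ∈ B)]
    {g : G} (hg : g ∈ B) (hg1 : g ≠ 1) :
    (Finset.univ.filter (fun a : G => a ∈ B ∧ a ≠ 1 ∧ a ≠ g)).card + 2 = Nat.card B := by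
  have h1 : (Finset.univ.filter (fun a : G => a ∈ B)).card = Nat.card B := by
    rw [Nat.card_eq_fintype_card, Fintype.card_subtype]
  have h2 : Finset.univ.filter (fun a : G => a ∈ B ∧ a ≠ 1 ∧ a ≠ g)
      = ((Finset.univ.filter (fun a : G => a ∈ B)).erase 1).erase g := by
    ext a
    simp only [Finset.mem_filter, Finset.mem_univ, true_and, Finset.mem_erase]
    tauto
  have h3 : (1 : G) ∈ Finset.univ.filter (fun a : G => a ∈ B) := by
    simp [B.one_mem]
  have h4 : g ∈ (Finset.univ.filter (fun a : G => a ∈ B)).erase 1 := by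
    simp [hg, hg1]
  rw [h2, Finset.card_erase_of_mem h4, Finset.card_erase_of_mem h3, h1]
  have : 2 ≤ Nat.card B := by
    rw [← h1]
    have := Finset.card_erase_of_mem h3
    have h5 : 0 < ((Finset.univ.filter (fun a : G => a ∈ B)).erase 1).card :=
      Finset.card_pos.2 ⟨g, h4⟩
    omega
  omega

/-- inclusion–exclusion lower bound for three sets -/
theorem three_union_bound {α : Type*} [DecidableEq α] (A B C : Finset α) :
    A.card + B.card + C.card ≤ (A ∪ B ∪ C).card + (A ∩ B).card + (A ∩ C).card + (B ∩ C).card := by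
  have h1 := Finset.card_union_add_card_inter A B
  have h2 := Finset.card_union_add_card_inter (A ∪ B) C
  have h3 : (A ∪ B) ∩ C = (A ∩ C) ∪ (B ∩ C) := Finset.union_inter_distrib_right A B C
  have h4 := Finset.card_union_le (A ∩ C) (B ∩ C)
  rw [h3] at h2
  omega

/-- two distinct subgroups of the same odd order `q` meet in at most `q / 3` elements -/
theorem three_mul_card_inf_le [Finite G] (P₁ P₂ : Subgroup G) (q : ℕ) (h1 : Nat.card P₁ = q)
    (h2 : Nat.card P₂ = q) (hodd : ¬ 2 ∣ q) (hne : P₁ ≠ P₂) : 3 * Nat.card (P₁ ⊓ P₂ : Subgroup G) ≤ q := by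
  have hd : Nat.card (P₁ ⊓ P₂ : Subgroup G) ∣ q := by
    rw [← h1]; exact Subgroup.card_dvd_of_le inf_le_left
  have hqpos : 0 < q := by rw [← h1]; exact Nat.card_pos
  obtain ⟨e, he⟩ := hd
  have hdpos : 0 < Nat.card (P₁ ⊓ P₂ : Subgroup G) := Nat.card_pos
  have he1 : e ≠ 1 := by
    intro e1
    rw [e1, mul_one] at he
    apply hne
    have hA : (P₁ ⊓ P₂ : Subgroup G) = P₁ :=
      Subgroup.eq_of_le_of_card_ge inf_le_left (by rw [h1, ← he])
    have hB : (P₁ ⊓ P₂ : Subgroup G) = P₂ :=
      Subgroup.eq_of_le_of_card_ge inf_le_right (by rw [h2, ← he])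
    rw [← hA]; exact hB
  have he2 : e ≠ 2 := by
    intro e2
    apply hodd
    rw [he, e2]; exact dvd_mul_left 2 _
  have he0 : e ≠ 0 := by
    intro e0; rw [e0, mul_zero] at he; omega
  have he3 : 3 ≤ e := by omega
  rw [he]
  calc 3 * Nat.card (P₁ ⊓ P₂ : Subgroup G) = Nat.card (P₁ ⊓ P₂ : Subgroup G) * 3 := by ring
    _ ≤ Nat.card (P₁ ⊓ P₂ : Subgroup G) * e := Nat.mul_le_mul_left _ he3

/-- a subgroup `B` of order `q` through `g` with `B^# ⊆ U` gives `q - 2` factorisations -/
theorem mem_pairs_of_mem [Finite G] (h : Hyp t s K) {g : G} (B : Subgroup G)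
    (hBU : ∀ a ∈ B, a ≠ 1 → InU K a) (hgB : g ∈ B) {a : G} (ha : a ∈ B) (ha1 : a ≠ 1)
    (hag : a ≠ g) : InU K a ∧ InU K (a⁻¹ * g) ∧ a * (a⁻¹ * g) = g := by
  refine ⟨hBU a ha ha1, hBU _ (mul_mem (inv_mem ha) hgB) ?_, by group⟩
  intro e
  apply hag
  have := eq_inv_of_mul_eq_one_right e
  rw [inv_inv] at this
  exact this.symm

/-- `C(g)` is commutative for `g ∈ U` -/
theorem minus_comm [Finite G] (h : Hyp t s K) (hk : 4 ≤ Nat.card K) (q : ℕ)
    (hB : BB1 K q (-1)) (h3 : BB3 K q) {g : G} (hg : InU K g) :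
    ∀ a ∈ centralizer ({g} : Set G), ∀ b ∈ centralizer ({g} : Set G), a * b = b * a := by
  classical
  by_contra hnc
  have hcP := minus_card_centralizer h hk q hB hg
  have hg1 : g ≠ 1 := hg.1.ne_one
  obtain ⟨w₁, hw₁, w₂, hw₂, hw₁1, hw₂1, hC1, hC2, hC12⟩ :=
    exists_two_centralizers (centralizer ({g} : Set G))
      (by
        intro w hw hw1
        rw [minus_card_centralizer h hk q hB (inU_of_mem_centralizer h hg hw hw1), hcP])
      hnc
  have hU1 := inU_of_mem_centralizer h hg hw₁ hw₁1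
  have hU2 := inU_of_mem_centralizer h hg hw₂ hw₂1
  have hc1 := minus_card_centralizer h hk q hB hU1
  have hc2 := minus_card_centralizer h hk q hB hU2
  have hg_1 : g ∈ centralizer ({w₁} : Set G) := by
    rw [mem_centralizer_singleton] at hw₁ ⊢; exact hw₁.symm
  have hg_2 : g ∈ centralizer ({w₂} : Set G) := by
    rw [mem_centralizer_singleton] at hw₂ ⊢; exact hw₂.symm
  have hg_0 : g ∈ centralizer ({g} : Set G) := mem_centralizer_singleton.2 rfl
  have hodd : ¬ 2 ∣ q := by rw [← hcP]; exact not_two_dvd_card_centralizer h hg.1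
  haveI : Fintype G := Fintype.ofFinite G
  set P₀ := centralizer ({g} : Set G) with hP₀
  set P₁ := centralizer ({w₁} : Set G) with hP₁
  set P₂ := centralizer ({w₂} : Set G) with hP₂
  let S : Subgroup G → Finset G := fun B => Finset.univ.filter (fun a : G => a ∈ B ∧ a ≠ 1 ∧ a ≠ g)
  have hS0 := card_filter_sub P₀ hg_0 hg1
  have hS1 := card_filter_sub P₁ hg_1 hg1
  have hS2 := card_filter_sub P₂ hg_2 hg1
  have hinter : ∀ B B' : Subgroup G, S B ∩ S B' = S (B ⊓ B') := by
    intro B B'
    ext a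
    simp only [S, Finset.mem_inter, Finset.mem_filter, Finset.mem_univ, true_and, mem_inf]
    tauto
  have hI01 := card_filter_sub (P₀ ⊓ P₁) (mem_inf.2 ⟨hg_0, hg_1⟩) hg1
  have hI02 := card_filter_sub (P₀ ⊓ P₂) (mem_inf.2 ⟨hg_0, hg_2⟩) hg1
  have hI12 := card_filter_sub (P₁ ⊓ P₂) (mem_inf.2 ⟨hg_1, hg_2⟩) hg1
  have hb01 := three_mul_card_inf_le P₀ P₁ q hcP hc1 hodd (Ne.symm hC1)
  have hb02 := three_mul_card_inf_le P₀ P₂ q hcP hc2 hodd (Ne.symm hC2)
  have hb12 := three_mul_card_inf_le P₁ P₂ q hc1 hc2 hodd hC12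
  have hunion := three_union_bound (S P₀) (S P₁) (S P₂)
  rw [hinter, hinter, hinter] at hunion
  have hbig : 2 * q ≤ (S P₀ ∪ S P₁ ∪ S P₂).card := by
    have e0 : (S P₀).card + 2 = Nat.card P₀ := hS0
    have e1 : (S P₁).card + 2 = Nat.card P₁ := hS1
    have e2 : (S P₂).card + 2 = Nat.card P₂ := hS2
    have e01 : (S (P₀ ⊓ P₁)).card + 2 = Nat.card (P₀ ⊓ P₁ : Subgroup G) := hI01
    have e02 : (S (P₀ ⊓ P₂)).card + 2 = Nat.card (P₀ ⊓ P₂ : Subgroup G) := hI02
    have e12 : (S (P₁ ⊓ P₂)).card + 2 = Nat.card (P₁ ⊓ P₂ : Subgroup G) := hI12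
    omega
  -- the injection into the factorisations
  have hBU : ∀ (x : G), InU K x → ∀ a ∈ centralizer ({x} : Set G), a ≠ 1 → InU K a :=
    fun x hx a ha ha1 => inU_of_mem_centralizer h hx ha ha1
  have hmem : ∀ a ∈ S P₀ ∪ S P₁ ∪ S P₂, InU K a ∧ InU K (a⁻¹ * g) ∧ a * (a⁻¹ * g) = g := by
    intro a ha
    simp only [S, Finset.mem_union, Finset.mem_filter, Finset.mem_univ, true_and] at ha
    rcases ha with (⟨h1, h2, h3'⟩ | ⟨h1, h2, h3'⟩) | ⟨h1, h2, h3'⟩
    · exact mem_pairs_of_mem h P₀ (hBU g hg) hg_0 h1 h2 h3'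
    · exact mem_pairs_of_mem h P₁ (hBU w₁ hU1) hg_1 h1 h2 h3'
    · exact mem_pairs_of_mem h P₂ (hBU w₂ hU2) hg_2 h1 h2 h3'
  let f : {a : G // a ∈ S P₀ ∪ S P₁ ∪ S P₂} →
      {p : G × G // InU K p.1 ∧ InU K p.2 ∧ p.1 * p.2 = g} :=
    fun a => ⟨(a.1, a.1⁻¹ * g), hmem a.1 a.2⟩
  have hf : Function.Injective f := by
    intro a a' haa
    have : (a.1, a.1⁻¹ * g) = (a'.1, a'.1⁻¹ * g) := congrArg Subtype.val haa
    exact Subtype.ext (congrArg Prod.fst this)
  have hle := Nat.card_le_card_of_injective f hf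
  rw [Nat.card_eq_fintype_card, Fintype.card_coe] at hle
  have hbb := h3 g hg
  have hq7 : 1 ≤ q := by rw [← hcP]; exact Nat.card_pos
  omega

end Cfsg.Agent.Lib.Helper5.BSW
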