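import Mathlib
import Cfsg.Agent.Lib.Helper5.BSW.Minus4

/-!
# Brauer–Suzuki–Wall, abstract form (towards S3282): the case `δ = -1`, part 5

(author: helper5)  General lemmas: counting the conjugates of a TI subgroup exactly; conjugating normalisers; the
orbit–stabiliser bound `|N(P)| + |T| ≤ |T| |G : N(P)|` for `T = N(P) ∩ N(P^w)`, `w ∉ N(P)`; elements of a normaliser
of order prime to the index lie in the subgroup; arithmetic for `q + 1 = 2 k`.
-/

set_option autoImplicit false
set_option linter.unusedVariables false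
set_option linter.unusedSectionVars false
set_option linter.style.haveILetI false
set_option linter.unusedSimpArgs false

namespace Cfsg.Agent.Lib.Helper5.BSW

open Subgroup Cfsg.Agent.Lib.Lead.BSW

variable {G : Type*} [Group G] {t s : G} {K : Subgroup G}

/-- a subgroup which is the centraliser of each of its non-identity elements is TI -/
theorem ti_of_cc (P : Subgroup G) (hCC : ∀ x ∈ P, x ≠ 1 → centralizer ({x} : Set G) = P) :
    ∀ a ∈ P, a ≠ 1 → ∀ w : G, w * a * w⁻¹ ∈ P → w ∈ normalizer (P : Set G) := by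
  intro a ha ha1 w hw
  have e1 := hCC a ha ha1
  have hw1 : w * a * w⁻¹ ≠ 1 := by
    intro h1
    apply ha1
    have : a = w⁻¹ * (w * a * w⁻¹) * w := by group
    rw [this, h1]; group
  have e2 := hCC _ hw hw1
  rw [mem_normalizer_iff]
  intro b
  constructor
  · intro hb
    rw [← e1] at hb
    rw [← e2]
    exact mem_centralizer_conj_iff.2 hb
  · intro hb
    rw [← e2] at hb
    rw [← e1]
    exact mem_centralizer_conj_iff.1 hb

/-- counting the conjugates of a TI subgroup covering a conjugation invariant set -/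
theorem card_conj_eq [Finite G] (A : Subgroup G)
    (hTI : ∀ a ∈ A, a ≠ 1 → ∀ w : G, w * a * w⁻¹ ∈ A → w ∈ normalizer (A : Set G))
    (S : G → Prop) (hS : ∀ a ∈ A, a ≠ 1 → ∀ x : G, S (x * a * x⁻¹))
    (hsurj : ∀ g' : G, S g' → ∃ x : G, ∃ a ∈ A, a ≠ 1 ∧ x * a * x⁻¹ = g') :
    (normalizer (A : Set G)).index * (Nat.card A - 1) = Nat.card {g : G // S g} := by
  apply le_antisymm (card_conj_le A hTI S hS)
  have hA : Nat.card {y : A // y ≠ 1} = Nat.card A - 1 := by
    classical
    haveI : Fintype A := Fintype.ofFinite A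
    rw [Nat.card_eq_fintype_card, Nat.card_eq_fintype_card, Fintype.card_subtype_compl,
      Fintype.card_subtype_eq]
  rw [← hA, Subgroup.index_eq_card, ← Nat.card_prod]
  let f : ((G ⧸ normalizer (A : Set G)) × {y : A // y ≠ 1}) → {g : G // S g} := fun p =>
    ⟨(Quotient.out p.1 : G) * (p.2.1 : G) * (Quotient.out p.1 : G)⁻¹,
      hS _ p.2.1.2 (fun e => p.2.2 (Subtype.ext e)) _⟩
  apply Nat.card_le_card_of_surjective f
  rintro ⟨g', hg'⟩
  obtain ⟨x, a, ha, ha1, hxa⟩ := hsurj g' hg'
  set c : G ⧸ normalizer (A : Set G) := QuotientGroup.mk x with hc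
  have hout : x⁻¹ * (Quotient.out c : G) ∈ normalizer (A : Set G) := by
    have : (QuotientGroup.mk (Quotient.out c : G) : G ⧸ normalizer (A : Set G)) = QuotientGroup.mk x :=
      Quotient.out_eq' c
    exact QuotientGroup.eq.1 this.symm
  set n := x⁻¹ * (Quotient.out c : G) with hn
  have hmem : n⁻¹ * a * n ∈ A := by
    have := (mem_normalizer_iff.1 (inv_mem hout) a).1 ha
    rwa [inv_inv] at this
  have hne : (⟨n⁻¹ * a * n, hmem⟩ : A) ≠ 1 := by
    intro e
    have e' : n⁻¹ * a * n = 1 := congrArg Subtype.val e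
    apply ha1
    have : a = n * (n⁻¹ * a * n) * n⁻¹ := by group
    rw [this, e']; group
  refine ⟨(c, ⟨⟨n⁻¹ * a * n, hmem⟩, hne⟩), ?_⟩
  apply Subtype.ext
  show (Quotient.out c : G) * (n⁻¹ * a * n) * (Quotient.out c : G)⁻¹ = g'
  have : (Quotient.out c : G) = x * n := by rw [hn]; group
  rw [this, ← hxa]; group

theorem mem_map_conj_iff (P : Subgroup G) (w z : G) :
    z ∈ P.map (MulAut.conj w).toMonoidHom ↔ w⁻¹ * z * w ∈ P := by
  rw [mem_map]
  constructor
  · rintro ⟨x, hx, rfl⟩
    show w⁻¹ * (w * x * w⁻¹) * w ∈ P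
    have : w⁻¹ * (w * x * w⁻¹) * w = x := by group
    rw [this]; exact hx
  · intro hz
    refine ⟨w⁻¹ * z * w, hz, ?_⟩
    show w * (w⁻¹ * z * w) * w⁻¹ = z
    group

/-- conjugation maps `N(P)` into `N(P^w)` -/
theorem conj_mem_normalizer_map {P : Subgroup G} {y : G} (w : G)
    (hy : y ∈ normalizer (P : Set G)) :
    w * y * w⁻¹ ∈ normalizer ((P.map (MulAut.conj w).toMonoidHom : Subgroup G) : Set G) := by
  rw [mem_normalizer_iff]
  intro z
  rw [mem_map_conj_iff, mem_map_conj_iff]
  have := mem_normalizer_iff.1 hy (w⁻¹ * z * w)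
  have e : w⁻¹ * (w * y * w⁻¹ * z * (w * y * w⁻¹)⁻¹) * w = y * (w⁻¹ * z * w) * y⁻¹ := by group
  rw [e]; exact this

/-- conjugating twice by an involution -/
theorem map_conj_map_conj (P : Subgroup G) {u : G} (huu : u * u = 1) :
    (P.map (MulAut.conj u).toMonoidHom).map (MulAut.conj u).toMonoidHom = P := by
  ext z
  rw [mem_map_conj_iff, mem_map_conj_iff]
  have hui : u⁻¹ = u := inv_eq_of_mul_eq_one_left huu
  have : u⁻¹ * (u⁻¹ * z * u) * u = z := by
    rw [hui]
    calc u * (u * z * u) * u = (u * u) * z * (u * u) := by group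
      _ = z := by rw [huu, one_mul, mul_one]
  rw [this]

/-- orbit–stabiliser bound for `T = N(P) ∩ N(P^w)`, `w ∉ N(P)` -/
theorem card_normalizer_add_le [Finite G] (P : Subgroup G) (w : G)
    (hw : w ∉ normalizer (P : Set G)) :
    Nat.card (normalizer (P : Set G)) +
      Nat.card ((normalizer (P : Set G) ⊓
        normalizer ((P.map (MulAut.conj w).toMonoidHom : Subgroup G) : Set G) : Subgroup G)) ≤
      Nat.card ((normalizer (P : Set G) ⊓
        normalizer ((P.map (MulAut.conj w).toMonoidHom : Subgroup G) : Set G) : Subgroup G)) *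
        (normalizer (P : Set G)).index := by
  set N := normalizer (P : Set G) with hN
  set T := (N ⊓ normalizer ((P.map (MulAut.conj w).toMonoidHom : Subgroup G) : Set G) : Subgroup G)
    with hT
  let ω : G ⧸ N := QuotientGroup.mk w
  have h1 : (MulAction.stabilizer N ω).index = (MulAction.orbit N ω).ncard :=
    MulAction.index_stabilizer N ω
  have h2 := (MulAction.stabilizer N ω).card_mul_index
  have hsm : ∀ n : N, n • ω = (QuotientGroup.mk ((n : G) * w) : G ⧸ N) := fun n => rfl
  have h3 : (MulAction.orbit N ω).ncard + 1 ≤ N.index := by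
    have hnot : (QuotientGroup.mk (1 : G) : G ⧸ N) ∉ MulAction.orbit N ω := by
      intro hmem
      obtain ⟨n, hn⟩ := MulAction.mem_orbit_iff.1 hmem
      rw [hsm] at hn
      have := QuotientGroup.eq.1 hn.symm
      rw [inv_one, one_mul] at this
      apply hw
      have h5 := mul_mem (inv_mem n.2) this
      rwa [← mul_assoc, inv_mul_cancel, one_mul] at h5
    rw [← Set.ncard_insert_of_notMem hnot (Set.toFinite _), Subgroup.index_eq_card]
    exact Set.ncard_le_card _
  have h4 : Nat.card (MulAction.stabilizer N ω) ≤ Nat.card T := by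
    let f : MulAction.stabilizer N ω → T := fun x => ⟨((x : N) : G), by
      refine mem_inf.2 ⟨(x : N).2, ?_⟩
      have hx : (x : N) • ω = ω := x.2
      rw [hsm] at hx
      have h5 := QuotientGroup.eq.1 hx
      -- (x w)⁻¹ w ∈ N
      have h6 := conj_mem_normalizer_map w h5
      have e : w * ((((x : N) : G) * w)⁻¹ * w) * w⁻¹ = (((x : N) : G))⁻¹ := by group
      rw [e] at h6
      have := inv_mem h6
      rwa [inv_inv] at this⟩
    apply Nat.card_le_card_of_injective f
    intro x x' hxx
    have : ((x : N) : G) = ((x' : N) : G) := congrArg (fun y : T => (y : G)) hxx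
    exact Subtype.ext (Subtype.ext this)
  calc Nat.card N + Nat.card T
      = Nat.card (MulAction.stabilizer N ω) * (MulAction.orbit N ω).ncard + Nat.card T := by
        rw [← h1, h2]
    _ ≤ Nat.card T * (MulAction.orbit N ω).ncard + Nat.card T := by
        apply Nat.add_le_add_right
        exact Nat.mul_le_mul_right _ h4
    _ = Nat.card T * ((MulAction.orbit N ω).ncard + 1) := by ring
    _ ≤ Nat.card T * N.index := Nat.mul_le_mul_left _ h3

/-- an element of `N(P)` whose order is prime to `|N(P) : P|` lies in `P` -/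
theorem mem_of_coprime_relIndex (P : Subgroup G) {l : G} (hl : l ∈ normalizer (P : Set G))
    (hco : Nat.Coprime (P.relIndex (normalizer (P : Set G))) (orderOf l)) : l ∈ P := by
  have h1 := Subgroup.pow_index_mem (P.subgroupOf (normalizer (P : Set G))) ⟨l, hl⟩
  rw [Subgroup.mem_subgroupOf] at h1
  have h2 : l ^ P.relIndex (normalizer (P : Set G)) ∈ P := by
    unfold Subgroup.relIndex
    simpa using h1
  obtain ⟨m, hm⟩ := exists_pow_eq_self_of_coprime hco
  rw [← hm]
  exact pow_mem h2 m

section arith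

theorem arith_k_q {p k q : ℕ} (hp : p.Prime) (hq : q + 1 = 2 * k) (h1 : p ∣ k) (h2 : p ∣ q) :
    False := by
  have h3 : p ∣ 2 * k := dvd_mul_of_dvd_right h1 2
  have h4 := Nat.dvd_sub h3 h2
  have : 2 * k - q = 1 := by omega
  rw [this] at h4
  exact hp.one_lt.ne' (Nat.dvd_one.1 h4)

theorem arith_k_k1 {p k : ℕ} (hp : p.Prime) (hk : 1 ≤ k) (h1 : p ∣ k) (h2 : p ∣ k - 1) :
    False := by
  have h4 := Nat.dvd_sub h1 h2
  have : k - (k - 1) = 1 := by omega
  rw [this] at h4
  exact hp.one_lt.ne' (Nat.dvd_one.1 h4)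

theorem arith_q_k1 {p k q : ℕ} (hp : p.Prime) (hq : q + 1 = 2 * k) (hk : 1 ≤ k) (h1 : p ∣ q)
    (h2 : p ∣ k - 1) : False := by
  have h3 : p ∣ 2 * (k - 1) := dvd_mul_of_dvd_right h2 2
  have h4 := Nat.dvd_sub h1 h3
  have : q - 2 * (k - 1) = 1 := by omega
  rw [this] at h4
  exact hp.one_lt.ne' (Nat.dvd_one.1 h4)

theorem coprime_k1_q {k q : ℕ} (hq : q + 1 = 2 * k) (hk : 1 ≤ k) : Nat.Coprime (k - 1) q := by
  apply Nat.coprime_of_dvd
  intro p hp h1 h2
  exact arith_q_k1 hp hq hk h2 h1

theorem coprime_qk1_k {k q : ℕ} (hq : q + 1 = 2 * k) (hk : 1 ≤ k) :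
    Nat.Coprime (q * (k - 1)) k := by
  apply Nat.coprime_of_dvd
  intro p hp h1 h2
  rcases (Nat.Prime.dvd_mul hp).1 h1 with h3 | h3
  · exact arith_k_q hp hq h2 h3
  · exact arith_k_k1 hp hk h2 h3

end arith

end Cfsg.Agent.Lib.Helper5.BSW
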