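import Mathlib
import Cfsg.Agent.Lib.Helper5.BSW.Minus5

/-!
# Brauer–Suzuki–Wall, abstract form (towards S3282): the case `δ = -1`, part 6 (conclusion)

(author: helper5)  `P := C(g)` for `g ∈ U` is abelian (part 4), hence a TI subgroup with `q + 1` conjugates and
`|N(P)| = q (q - 1) / 2`.  An element `l ∈ N(P) \ P` is strongly real; with an involution `u` inverting it,
`T := N(P) ∩ N(P^u)` is inverted by `u`, hence abelian and contained in `D := C(l)`, and `|T| ≥ (q - 1) / 2 = |D|`
by orbit–stabiliser.  So `D ≤ N(P)`, `N(P) = P ⊔ D`, and the conclusion of S3282 holds with `Q = P`.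
-/

set_option autoImplicit false
set_option linter.unusedVariables false
set_option linter.unusedSectionVars false
set_option linter.style.haveILetI false
set_option linter.unusedSimpArgs false
set_option maxHeartbeats 1000000

namespace Cfsg.Agent.Lib.Helper5.BSW

open Subgroup Cfsg.Agent.Lib.Lead.BSW

variable {G : Type*} [Group G] {t s : G} {K : Subgroup G}

/-- elements of a subgroup of order prime to `|K|` lie in no conjugate of `K` -/
theorem inR_of_coprime [Finite G] (N : Subgroup G) (hco : Nat.Coprime (Nat.card N) (Nat.card K))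
    {x : G} (hx : x ∈ N) (hx1 : x ≠ 1) : InR K x := by
  intro w hw
  have h1 : orderOf x ∣ Nat.card N := Subgroup.orderOf_dvd_natCard N hx
  have h2 : orderOf x ∣ Nat.card K := by
    have e := orderOf_conj_eq w⁻¹ x
    rw [inv_inv] at e
    rw [← e]
    exact Subgroup.orderOf_dvd_natCard K hw
  have h3 := Nat.dvd_gcd h1 h2
  rw [hco] at h3
  exact hx1 (orderOf_eq_one_iff.1 (Nat.dvd_one.1 h3))

/-- commutativity of a subgroup inverted by an element -/
theorem comm_of_inverted {T : Subgroup G} {u : G} (hinv : ∀ b ∈ T, u * b * u⁻¹ = b⁻¹) :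
    ∀ a ∈ T, ∀ b ∈ T, a * b = b * a := by
  intro a ha b hb
  have h1 := hinv a ha
  have h2 := hinv b hb
  have h3 := hinv (a * b) (mul_mem ha hb)
  have e : u * (a * b) * u⁻¹ = (u * a * u⁻¹) * (u * b * u⁻¹) := by group
  rw [e, h1, h2, mul_inv_rev] at h3
  have := congrArg (fun z => z⁻¹) h3
  simp only [mul_inv_rev, inv_inv] at this
  exact this.symm

theorem minus_concl [Finite G] (h : Hyp t s K) (hk : 4 ≤ Nat.card K) (q : ℕ)
    (hB : BB1 K q (-1)) (h3 : BB3 K q) : Concl G := by
  obtain ⟨hq1, hGq⟩ := minus_card_G h q hB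
  have hB' := hB
  obtain ⟨_, hq, hG, hbeta, hcount⟩ := hB'
  have hq7 : 7 ≤ q := by omega
  have hk1 : 1 ≤ Nat.card K := by omega
  have hsq : q ^ 2 - 1 = (q + 1) * (q - 1) := by
    obtain ⟨m, rfl⟩ : ∃ m, q = m + 1 := ⟨q - 1, by omega⟩
    have : (m + 1) ^ 2 = (m + 1 + 1) * m + 1 := by ring
    simp only [Nat.add_sub_cancel]
    omega
  -- an element of U
  have hneU : Nonempty {g : G // InR K g ∧ (((-1 : ℤ) = 1 ∧ Lead.BSW.beta g = q) ∨
      ((-1 : ℤ) = -1 ∧ Lead.BSW.beta g = 0))} := by
    by_contra hne
    rw [not_nonempty_iff] at hne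
    rw [Nat.card_of_isEmpty, hsq] at hcount
    have : 0 < (q + 1) * (q - 1) := Nat.mul_pos (by omega) (by omega)
    omega
  obtain ⟨⟨g, hRg, hgb⟩⟩ := hneU
  have hg : InU K g := ⟨hRg, by
    rcases hgb with ⟨h1, _⟩ | ⟨_, h2⟩
    · norm_num at h1
    · exact h2⟩
  have hU : Nat.card {x : G // InU K x} = q ^ 2 - 1 := by
    rw [← hcount]
    apply Nat.card_congr
    exact
      { toFun := fun g => ⟨g.1, g.2.1, Or.inr ⟨rfl, g.2.2⟩⟩
        invFun := fun g => ⟨g.1, g.2.1, by
          rcases g.2.2 with ⟨h1, _⟩ | ⟨_, h2⟩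
          · norm_num at h1
          · exact h2⟩
        left_inv := fun g => rfl
        right_inv := fun g => rfl }
  have hcP : Nat.card (centralizer ({g} : Set G)) = q := minus_card_centralizer h hk q hB hg
  have hcomm := minus_comm h hk q hB h3 hg
  have hgP : g ∈ centralizer ({g} : Set G) := mem_centralizer_singleton.2 rfl
  have hg1 : g ≠ 1 := hRg.ne_one
  -- CC
  have hCC : ∀ x ∈ centralizer ({g} : Set G), x ≠ 1 →
      centralizer ({x} : Set G) = centralizer ({g} : Set G) := by
    intro x hx hx1
    symm
    apply Subgroup.eq_of_le_of_card_ge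
    · intro a ha
      rw [mem_centralizer_singleton]; exact hcomm a ha x hx
    · rw [minus_card_centralizer h hk q hB (inU_of_mem_centralizer h hg hx hx1), hcP]
  have hTI := ti_of_cc _ hCC
  have hPU : ∀ a ∈ centralizer ({g} : Set G), a ≠ 1 → InU K a :=
    fun a ha ha1 => inU_of_mem_centralizer h hg ha ha1
  -- the index of N(P)
  have hidx : (normalizer ((centralizer ({g} : Set G) : Subgroup G) : Set G)).index = q + 1 := by
    have h5 := card_conj_eq (centralizer ({g} : Set G)) hTI (fun x => InU K x)
      (fun a ha ha1 x => InU.conj (hPU a ha ha1) x)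
      (by
        intro g' hg'
        obtain ⟨x, hx | hx⟩ := minus_two_classes h hk q hB hg hg'
        · exact ⟨x, g, hgP, hg1, hx⟩
        · exact ⟨x, g⁻¹, inv_mem hgP, inv_ne_one.2 hg1, hx⟩)
    rw [hU, hcP, hsq] at h5
    exact Nat.eq_of_mul_eq_mul_right (by omega) h5
  have hNmul := (normalizer ((centralizer ({g} : Set G) : Subgroup G) : Set G)).card_mul_index
  have hPmul := (centralizer ({g} : Set G)).card_mul_index
  have hrel := Subgroup.relIndex_mul_index
    (le_normalizer : centralizer ({g} : Set G) ≤
      normalizer ((centralizer ({g} : Set G) : Subgroup G) : Set G))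
  rw [hidx] at hNmul hrel
  rw [hcP] at hPmul
  have hq2 : q - 1 = 2 * (Nat.card K - 1) := by omega
  have hcN : Nat.card (normalizer ((centralizer ({g} : Set G) : Subgroup G) : Set G))
      = q * (Nat.card K - 1) := by
    rw [hGq, hq1, hq2] at hNmul
    have : Nat.card (normalizer ((centralizer ({g} : Set G) : Subgroup G) : Set G)) *
        (2 * Nat.card K) = (q * (Nat.card K - 1)) * (2 * Nat.card K) := by rw [hNmul]; ring
    exact Nat.eq_of_mul_eq_mul_right (by omega) this
  have hrelv : (centralizer ({g} : Set G)).relIndex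
      (normalizer ((centralizer ({g} : Set G) : Subgroup G) : Set G)) = Nat.card K - 1 := by
    rw [hGq, hq2] at hPmul
    have h6 : (centralizer ({g} : Set G)).index = Nat.card K * (2 * (Nat.card K - 1)) :=
      Nat.eq_of_mul_eq_mul_left (by omega : 0 < q) hPmul
    rw [h6, hq1] at hrel
    have : (centralizer ({g} : Set G)).relIndex
        (normalizer ((centralizer ({g} : Set G) : Subgroup G) : Set G)) * (2 * Nat.card K)
        = (Nat.card K - 1) * (2 * Nat.card K) := by rw [hrel]; ring
    exact Nat.eq_of_mul_eq_mul_right (by omega) this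
  have hcoNK : Nat.Coprime (Nat.card (normalizer ((centralizer ({g} : Set G) : Subgroup G) : Set G)))
      (Nat.card K) := by
    rw [hcN]; exact coprime_qk1_k hq1 hk1
  -- an element of N(P) \ P
  obtain ⟨l, hlN, hlP⟩ : ∃ l ∈ normalizer ((centralizer ({g} : Set G) : Subgroup G) : Set G),
      l ∉ centralizer ({g} : Set G) := by
    have hlt : centralizer ({g} : Set G) <
        normalizer ((centralizer ({g} : Set G) : Subgroup G) : Set G) := by
      apply lt_of_le_of_ne le_normalizer
      intro e
      have : Nat.card (centralizer ({g} : Set G)) =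
          Nat.card (normalizer ((centralizer ({g} : Set G) : Subgroup G) : Set G)) := by rw [← e]
      rw [hcP, hcN] at this
      have h7 : q * 1 = q * (Nat.card K - 1) := by rw [mul_one]; exact this
      have := Nat.eq_of_mul_eq_mul_left (by omega : 0 < q) h7
      omega
    exact SetLike.exists_of_lt hlt
  have hl1 : l ≠ 1 := by
    intro e; apply hlP; rw [e]; exact one_mem _
  have hRl : InR K l := inR_of_coprime _ hcoNK hlN hl1
  have hnU : ¬ InU K l := by
    intro hUl
    apply hlP
    apply mem_of_coprime_relIndex _ hlN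
    rw [hrelv]
    have hlo : orderOf l ∣ q := by
      rw [← minus_card_centralizer h hk q hB hUl]
      exact Subgroup.orderOf_dvd_natCard _ (mem_centralizer_singleton.2 rfl)
    exact Nat.Coprime.coprime_dvd_right hlo (coprime_k1_q hq1 hk1)
  have hbl : Lead.BSW.beta l ≠ 0 := fun e => hnU ⟨hRl, e⟩
  obtain ⟨u, hu, hinv⟩ := exists_invol_of_beta_ne_zero hbl
  have huu : u * u = 1 := mul_self_of_orderOf_two hu
  have hui : u⁻¹ = u := inv_eq_self_of_orderOf_two hu
  have hcD := minus_card_D h q hB hRl hu hinv
  -- u does not normalise P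
  have huN : u ∉ normalizer ((centralizer ({g} : Set G) : Subgroup G) : Set G) := by
    intro huN
    have h8 := inverts_of_normalizes_R h (B := centralizer ({g} : Set G))
      (fun b hb hb1 => (hPU b hb hb1).1) hu huN g hgP
    have h9 := h.beta_eq_card_centralizer hRg hu h8
    rw [hg.2, hcP] at h9
    omega
  -- T
  have hTR : ∀ b ∈ (normalizer ((centralizer ({g} : Set G) : Subgroup G) : Set G) ⊓
      normalizer (((centralizer ({g} : Set G)).map (MulAut.conj u).toMonoidHom : Subgroup G) : Set G) :
        Subgroup G), b ≠ 1 → InR K b :=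
    fun b hb hb1 => inR_of_coprime _ hcoNK (mem_inf.1 hb).1 hb1
  have hstab : ∀ x ∈ (normalizer ((centralizer ({g} : Set G) : Subgroup G) : Set G) ⊓
      normalizer (((centralizer ({g} : Set G)).map (MulAut.conj u).toMonoidHom : Subgroup G) : Set G) :
        Subgroup G), u * x * u⁻¹ ∈ (normalizer ((centralizer ({g} : Set G) : Subgroup G) : Set G) ⊓
      normalizer (((centralizer ({g} : Set G)).map (MulAut.conj u).toMonoidHom : Subgroup G) : Set G) :
        Subgroup G) := by
    intro x hx
    obtain ⟨hx1, hx2⟩ := mem_inf.1 hx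
    refine mem_inf.2 ⟨?_, conj_mem_normalizer_map u hx1⟩
    have := conj_mem_normalizer_map u hx2
    rwa [map_conj_map_conj _ huu] at this
  have huT : u ∈ normalizer (((normalizer ((centralizer ({g} : Set G) : Subgroup G) : Set G) ⊓
      normalizer (((centralizer ({g} : Set G)).map (MulAut.conj u).toMonoidHom : Subgroup G) : Set G) :
        Subgroup G)) : Set G) := by
    rw [mem_normalizer_iff]
    intro x
    constructor
    · exact hstab x
    · intro hx
      have := hstab _ hx
      have e : u * (u * x * u⁻¹) * u⁻¹ = x := by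
        rw [hui]
        calc u * (u * x * u) * u = (u * u) * x * (u * u) := by group
          _ = x := by rw [huu, one_mul, mul_one]
      rwa [e] at this
  have hTinv := inverts_of_normalizes_R h hTR hu huT
  have hTcomm := comm_of_inverted hTinv
  -- l ∈ T
  have hlT : l ∈ (normalizer ((centralizer ({g} : Set G) : Subgroup G) : Set G) ⊓
      normalizer (((centralizer ({g} : Set G)).map (MulAut.conj u).toMonoidHom : Subgroup G) : Set G) :
        Subgroup G) := by
    refine mem_inf.2 ⟨hlN, ?_⟩
    have e : l = u * l⁻¹ * u⁻¹ := by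
      have e' : (u * l * u⁻¹)⁻¹ = u * l⁻¹ * u⁻¹ := by group
      rw [← e', hinv, inv_inv]
    rw [e]
    exact conj_mem_normalizer_map u (inv_mem hlN)
  -- T ≤ D
  have hTD : (normalizer ((centralizer ({g} : Set G) : Subgroup G) : Set G) ⊓
      normalizer (((centralizer ({g} : Set G)).map (MulAut.conj u).toMonoidHom : Subgroup G) : Set G) :
        Subgroup G) ≤ centralizer ({l} : Set G) := by
    intro x hx
    rw [mem_centralizer_singleton]
    exact hTcomm x hx l hlT
  -- |T| ≥ k - 1
  have hTcard : Nat.card K - 1 ≤ Nat.card ((normalizer ((centralizer ({g} : Set G) : Subgroup G) : Set G) ⊓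
      normalizer (((centralizer ({g} : Set G)).map (MulAut.conj u).toMonoidHom : Subgroup G) : Set G) :
        Subgroup G)) := by
    have h10 := card_normalizer_add_le (centralizer ({g} : Set G)) u huN
    rw [hcN, hidx] at h10
    generalize Nat.card ((normalizer ((centralizer ({g} : Set G) : Subgroup G) : Set G) ⊓
      normalizer (((centralizer ({g} : Set G)).map (MulAut.conj u).toMonoidHom : Subgroup G) : Set G) :
        Subgroup G)) = τ at *
    have h11 : q * (Nat.card K - 1) ≤ q * τ := by
      have : τ * (q + 1) = q * τ + τ := by ring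
      omega
    exact Nat.le_of_mul_le_mul_left h11 (by omega)
  have hTeq : (normalizer ((centralizer ({g} : Set G) : Subgroup G) : Set G) ⊓
      normalizer (((centralizer ({g} : Set G)).map (MulAut.conj u).toMonoidHom : Subgroup G) : Set G) :
        Subgroup G) = centralizer ({l} : Set G) := by
    apply Subgroup.eq_of_le_of_card_ge hTD
    have : Nat.card (centralizer ({l} : Set G)) = Nat.card K - 1 := by omega
    rw [this]; exact hTcard
  have hDN : centralizer ({l} : Set G) ≤
      normalizer ((centralizer ({g} : Set G) : Subgroup G) : Set G) := by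
    rw [← hTeq]; exact inf_le_left
  -- P ⊓ D = ⊥
  have hPD : centralizer ({g} : Set G) ⊓ centralizer ({l} : Set G) = ⊥ := by
    rw [eq_bot_iff]
    intro a ha
    rw [mem_bot]
    obtain ⟨ha1, ha2⟩ := mem_inf.1 ha
    by_contra hane
    have h12 := beta_of_mem_centralizer h hRl hu hinv ha2 hane
    have h13 := (hPU a ha1 hane).2
    have hpos : 0 < Nat.card (centralizer ({l} : Set G)) := Nat.card_pos
    omega
  have hND := minus_normalizer_D h q hB hRl hu hinv
  refine ⟨centralizer ({g} : Set G), centralizer ({l} : Set G), ?_, hCC, ?_, ?_, hPD, ?_, ?_⟩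
  · rw [hcP]; exact hG
  · exact ⟨⟨fun a b => Subtype.ext (h.centralizer_comm hRl hu hinv a a.2 b b.2)⟩⟩
  · rw [hcP]; exact hcD
  · symm
    apply Subgroup.eq_of_le_of_card_ge (sup_le le_normalizer hDN)
    rw [Cfsg.Agent.Lib.Helper8.BswD.card_sup_of_le_normalizer' _ _ hDN hPD, hcN, hcP]
    have : Nat.card (centralizer ({l} : Set G)) = Nat.card K - 1 := by omega
    rw [this]
  · intro X hX hX1
    refine ⟨normalizer_eq_of_le_D h hRl hu hinv hND hX hX1, u, hu, ?_, ?_, hND⟩
    · intro huD
      rw [mem_centralizer_singleton] at huD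
      exact h.not_commute_invol hRl hu huD
    · exact h.inverts_centralizer hRl hu hinv

end Cfsg.Agent.Lib.Helper5.BSW
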