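import Mathlib
import Cfsg.Agent.Lib.Helper5.BSW.Minus6

/-!
# Brauer–Suzuki–Wall, abstract form (towards S3282): assembly

(author: helper5)  `bsw_of_characters`: the conclusion of S3282 from the hypotheses `Hyp t s K`, given the outcome of
the character theory (`BB1` for `|K| ≥ 4`, and `BB3` when `δ = -1`).  `hyp_of_statement`: the hypotheses of S3282
give `Hyp t s K`.
-/

set_option autoImplicit false
set_option linter.unusedVariables false
set_option linter.unusedSectionVars false
set_option linter.style.haveILetI false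
set_option linter.unusedSimpArgs false

namespace Cfsg.Agent.Lib.Helper5.BSW

open Subgroup Cfsg.Agent.Lib.Lead.BSW

variable {G : Type*} [Group G] {t s : G} {K : Subgroup G}

theorem bsw_of_characters [Finite G] (h : Hyp t s K)
    (hBB1 : 4 ≤ Nat.card K → ∃ (q : ℕ) (δ : ℤ), BB1 K q δ)
    (hBB3 : 4 ≤ Nat.card K → ∀ q : ℕ, BB1 K q (-1) → BB3 K q) : Concl G := by
  have h2 : 2 ∣ Nat.card K := by
    have := Subgroup.orderOf_dvd_natCard K h.tK
    rwa [h.ht] at this
  have hpos : 0 < Nat.card K := Nat.card_pos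
  by_cases hK2 : Nat.card K = 2
  · exact K2.concl h hK2
  · have hk : 4 ≤ Nat.card K := by
      obtain ⟨m, hm⟩ := h2
      omega
    obtain ⟨q, δ, hB⟩ := hBB1 hk
    rcases hB.1 with hδ | hδ
    · subst hδ
      exact plus_concl h q hB
    · subst hδ
      exact minus_concl h hk q hB (hBB3 hk q hB)

theorem hyp_of_statement (t : G) (ht : orderOf t = 2)
    (K : Subgroup G) (hKab : IsMulCommutative ↥K) (hKH : K ≤ Subgroup.centralizer ({t} : Set G))
    (htK : t ∈ K)
    (s : G) (hs : orderOf s = 2) (hsH : s ∈ Subgroup.centralizer ({t} : Set G)) (hsK : s ∉ K)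
    (hH : K ⊔ Subgroup.zpowers s = Subgroup.centralizer ({t} : Set G))
    (hCK : K ⊓ Subgroup.centralizer ({s} : Set G) = Subgroup.zpowers t)
    (hinv : ∀ x ∈ K, s * x * s⁻¹ = x⁻¹)
    (hTI : ∀ g : G, g ∉ Subgroup.centralizer ({t} : Set G) →
      K ⊓ K.map (MulAut.conj g).toMonoidHom = ⊥)
    (hconj : ∀ x y : G, orderOf x = 2 → orderOf y = 2 → IsConj x y) : Hyp t s K :=
  { ht := ht
    hs := hs
    comm := fun a ha b hb => congrArg Subtype.val (hKab.is_comm.comm (⟨a, ha⟩ : K) ⟨b, hb⟩)
    tK := htK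
    KH := hKH
    sH := hsH
    sK := hsK
    hH := hH
    hCK := hCK
    inv := hinv
    TI := hTI
    conj := hconj }

end Cfsg.Agent.Lib.Helper5.BSW
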